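import Groth.Prelude.Def_ArtFun4
import Groth.Agent.MorLib.Thick.Affine
import Mathlib.AlgebraicGeometry.Morphisms.Flat

/-! Deformations of an affine scheme are the spectra of deformations of its algebra. -/

universe u

open CategoryTheory CategoryTheory.Limits AlgebraicGeometry

noncomputable section

namespace Groth.Agent.AffDefLib

open ArtFun

theorem lift_apply {B Q W : Type u} [CommRing B] [CommRing Q] [CommRing W] (q : B →+* Q)
    (hq : Function.Surjective q) (φ : {g : B →+* W // RingHom.ker q ≤ RingHom.ker g}) (b : B) :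
    RingHom.liftOfSurjective q hq φ (q b) = φ.1 b :=
  RingHom.liftOfRightInverse_comp_apply q _ (Function.rightInverse_surjInv hq) φ b

/-- A surjection with kernel generated by the kernel of the base surjection gives a pushout square. -/
theorem isPushout_of_ker {C B K Q : Type u} [CommRing C] [CommRing B] [CommRing K] [CommRing Q]
    (f : C →+* B) (r : C →+* K) (q : B →+* Q) (g : K →+* Q) (w : q.comp f = g.comp r)
    (hr : Function.Surjective r) (hq : Function.Surjective q)
    (hker : RingHom.ker q ≤ (RingHom.ker r).map f) :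
    IsPushout (CommRingCat.ofHom f) (CommRingCat.ofHom r) (CommRingCat.ofHom q) (CommRingCat.ofHom g) := by
  have hw : CommRingCat.ofHom f ≫ CommRingCat.ofHom q = CommRingCat.ofHom r ≫ CommRingCat.ofHom g := by
    rw [← CommRingCat.ofHom_comp, ← CommRingCat.ofHom_comp, w]
  have hle : ∀ s : PushoutCocone (CommRingCat.ofHom f) (CommRingCat.ofHom r),
      RingHom.ker q ≤ RingHom.ker s.inl.hom := fun s => hker.trans <| Ideal.map_le_iff_le_comap.2 fun c hc => by
    have := RingHom.congr_fun (congrArg CommRingCat.Hom.hom s.condition) c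
    change s.inl.hom (f c) = s.inr.hom (r c) at this
    change s.inl.hom (f c) = 0
    rw [this, show r c = 0 from hc, map_zero]
  refine ⟨⟨hw⟩, ⟨PushoutCocone.IsColimit.mk hw
    (fun s => CommRingCat.ofHom (RingHom.liftOfSurjective q hq ⟨s.inl.hom, hle s⟩))
    (fun s => ?_) (fun s => ?_) (fun s m hm _ => ?_)⟩⟩
  · ext b
    exact lift_apply q hq _ b
  · ext x
    obtain ⟨c, rfl⟩ := hr x
    have h1 := RingHom.congr_fun w c
    have h2 := RingHom.congr_fun (congrArg CommRingCat.Hom.hom s.condition) c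
    change q (f c) = g (r c) at h1
    change s.inl.hom (f c) = s.inr.hom (r c) at h2
    change RingHom.liftOfSurjective q hq _ (g (r c)) = s.inr.hom (r c)
    rw [← h1, ← h2]
    exact lift_apply q hq _ (f c)
  · ext x
    obtain ⟨b, rfl⟩ := hq x
    exact (RingHom.congr_fun (congrArg CommRingCat.Hom.hom hm) b).trans
      (lift_apply q hq ⟨s.inl.hom, hle s⟩ b).symm

theorem isPullback_Spec_of_ker {C B K Q : Type u} [CommRing C] [CommRing B] [CommRing K] [CommRing Q]
    (f : C →+* B) (r : C →+* K) (q : B →+* Q) (g : K →+* Q) (w : q.comp f = g.comp r)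
    (hr : Function.Surjective r) (hq : Function.Surjective q)
    (hker : RingHom.ker q ≤ (RingHom.ker r).map f) :
    IsPullback (Spec.map (CommRingCat.ofHom q)) (Spec.map (CommRingCat.ofHom g))
      (Spec.map (CommRingCat.ofHom f)) (Spec.map (CommRingCat.ofHom r)) :=
  isPullback_SpecMap_of_isPushout _ _ _ _ (isPushout_of_ker f r q g w hr hq hker)

/-- In a cartesian square of spectra over a surjection the top map is a surjection with the expected kernel. -/
theorem ker_of_isPullback_Spec {C B K Q : Type u} [CommRing C] [CommRing B] [CommRing K] [CommRing Q]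
    (f : C →+* B) (r : C →+* K) (q : B →+* Q) (g : K →+* Q) (hr : Function.Surjective r)
    (h : IsPullback (Spec.map (CommRingCat.ofHom q)) (Spec.map (CommRingCat.ofHom g))
      (Spec.map (CommRingCat.ofHom f)) (Spec.map (CommRingCat.ofHom r))) :
    Function.Surjective q ∧ RingHom.ker q = (RingHom.ker r).map f ∧ q.comp f = g.comp r := by
  let I := (RingHom.ker r).map f
  let p : B →+* B ⧸ I := Ideal.Quotient.mk I
  have hle : RingHom.ker r ≤ RingHom.ker (p.comp f) := fun c hc =>
    Ideal.Quotient.eq_zero_iff_mem.2 (Ideal.mem_map_of_mem f hc)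
  let g' : K →+* B ⧸ I := RingHom.liftOfSurjective r hr ⟨p.comp f, hle⟩
  have h' := isPullback_Spec_of_ker f r p g' (RingHom.ext fun c =>
    (lift_apply r hr ⟨p.comp f, hle⟩ c).symm) hr Ideal.Quotient.mk_surjective
    (le_of_eq Ideal.mk_ker)
  let e := h'.isoIsPullback _ _ h
  have he : e.hom ≫ Spec.map (CommRingCat.ofHom q) = Spec.map (CommRingCat.ofHom p) :=
    IsPullback.isoIsPullback_hom_fst _ _ _ _
  obtain ⟨φ, hφ⟩ : ∃ φ, Spec.map φ = e.hom := ⟨Spec.preimage e.hom, Spec.map_preimage _⟩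
  haveI : IsIso (Spec.map φ) := by rw [hφ]; infer_instance
  haveI : IsIso φ := by
    refine ⟨Spec.preimage (inv (Spec.map φ)), Spec.map_injective ?_, Spec.map_injective ?_⟩
    · rw [Spec.map_comp, Spec.map_preimage, IsIso.inv_hom_id, Spec.map_id]
    · rw [Spec.map_comp, Spec.map_preimage, IsIso.hom_inv_id, Spec.map_id]
  rw [← hφ, ← Spec.map_comp] at he
  have he' : ∀ b, φ.hom (q b) = p b := RingHom.congr_fun (congrArg CommRingCat.Hom.hom (Spec.map_injective he))
  have hbij : Function.Bijective φ.hom := (CategoryTheory.asIso φ).commRingCatIsoToRingEquiv.bijective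
  refine ⟨fun x => ?_, ?_, ?_⟩
  · obtain ⟨b, hb⟩ := Ideal.Quotient.mk_surjective (φ.hom x)
    exact ⟨b, hbij.1 ((he' b).trans hb)⟩
  · ext b
    rw [RingHom.mem_ker, ← map_eq_zero_iff φ.hom hbij.1, he', Ideal.Quotient.eq_zero_iff_mem]
  · have w := h.w
    rw [← Spec.map_comp, ← Spec.map_comp] at w
    exact congrArg CommRingCat.Hom.hom (Spec.map_injective w)

variable (k : Type u) [Field k] (B₀ : Type u) [CommRing B₀] [Algebra k B₀]

/-- `Spec B₀ → Spec k` -/
abbrev str : Spec (CommRingCat.of B₀) ⟶ Art.specPt k :=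
  Spec.map (CommRingCat.ofHom (algebraMap k B₀))

/-- A deformation of the algebra `B₀` over `C`. -/
structure AlgDef (C : Art k k) : Type (u + 1) where
  /-- the algebra -/
  carrier : Type u
  [commRing : CommRing carrier]
  [algebra : Algebra C carrier]
  flat : Module.Flat C carrier
  /-- reduction to the closed fibre -/
  q : carrier →+* B₀
  q_surjective : Function.Surjective q
  q_algebraMap : ∀ c, q (algebraMap C carrier c) = algebraMap k B₀ (C.res c)
  ker_q : RingHom.ker q = (IsLocalRing.maximalIdeal C).map (algebraMap C carrier)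

namespace AlgDef

variable {k B₀} {C C' : Art k k}

instance (D : AlgDef k B₀ C) : CommRing D.carrier := D.commRing
instance (D : AlgDef k B₀ C) : Algebra C D.carrier := D.algebra
instance (D : AlgDef k B₀ C) : Module.Flat C D.carrier := D.flat

omit [CommRing B₀] [Algebra k B₀] in
theorem ker_res (C : Art k k) : RingHom.ker C.res.toRingHom = IsLocalRing.maximalIdeal C := by
  ext c
  exact (Art.mem_maximalIdeal_iff C c).symm

/-- the deformation of the scheme -/
def toDefSch (D : AlgDef k B₀ C) : DefSch (Spec (CommRingCat.of B₀)) (str k B₀) C where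
  total := Spec (CommRingCat.of D.carrier)
  f := Spec.map (CommRingCat.ofHom (algebraMap C D.carrier))
  flat := (HasRingHomProperty.Spec_iff (P := @Flat)).2 ((RingHom.flat_algebraMap_iff).2 D.flat)
  i := Spec.map (CommRingCat.ofHom D.q)
  isPullback := isPullback_Spec_of_ker _ _ _ _ (RingHom.ext D.q_algebraMap) C.res_surjective
    D.q_surjective (by rw [ker_res, D.ker_q])

/-- isomorphism of algebra deformations -/
def IsIsoMap (D D' : AlgDef k B₀ C) (e : D.carrier ≃+* D'.carrier) : Prop :=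
  (∀ c, e (algebraMap C _ c) = algebraMap C _ c) ∧ ∀ b, D'.q (e b) = D.q b

/-- a ring isomorphism gives an isomorphism of deformations -/
def toIso {D D' : AlgDef k B₀ C} (e : D.carrier ≃+* D'.carrier) (h : IsIsoMap D D' e) :
    D.toDefSch.Iso D'.toDefSch where
  iso := Scheme.Spec.mapIso e.symm.toCommRingCatIso.op
  hom_f := by
    change Spec.map (CommRingCat.ofHom e.symm.toRingHom) ≫ Spec.map _ = Spec.map _
    rw [← Spec.map_comp, ← CommRingCat.ofHom_comp]
    congr 2
    exact RingHom.ext fun c => e.symm_apply_eq.2 (h.1 c).symm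
  i_hom := by
    change Spec.map _ ≫ Spec.map (CommRingCat.ofHom e.symm.toRingHom) = Spec.map _
    rw [← Spec.map_comp, ← CommRingCat.ofHom_comp]
    congr 2
    refine RingHom.ext fun b => ?_
    have := h.2 (e.symm b)
    rw [e.apply_symm_apply] at this
    exact this.symm

theorem exists_isIsoMap {D D' : AlgDef k B₀ C} (φ : D.toDefSch.Iso D'.toDefSch) :
    ∃ e : D.carrier ≃+* D'.carrier, IsIsoMap D D' e ∧
      φ.iso.hom = Spec.map (CommRingCat.ofHom e.symm.toRingHom) := by
  obtain ⟨a, ha⟩ : ∃ a, Spec.map a = φ.iso.hom := ⟨Spec.preimage φ.iso.hom, Spec.map_preimage _⟩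
  obtain ⟨b, hb⟩ : ∃ b, Spec.map b = φ.iso.inv := ⟨Spec.preimage φ.iso.inv, Spec.map_preimage _⟩
  let i : CommRingCat.of D'.carrier ≅ CommRingCat.of D.carrier :=
    { hom := a
      inv := b
      hom_inv_id := Spec.map_injective (by rw [Spec.map_comp, ha, hb, Spec.map_id]; exact φ.iso.inv_hom_id)
      inv_hom_id := Spec.map_injective (by rw [Spec.map_comp, ha, hb, Spec.map_id]; exact φ.iso.hom_inv_id) }
  have hf := φ.hom_f
  have hi := φ.i_hom
  rw [← ha] at hf hi
  change Spec.map a ≫ Spec.map _ = Spec.map _ at hf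
  change Spec.map _ ≫ Spec.map a = Spec.map _ at hi
  rw [← Spec.map_comp] at hf hi
  refine ⟨i.symm.commRingCatIsoToRingEquiv, ⟨fun c => ?_, fun x => ?_⟩, ha.symm⟩
  · have := RingHom.congr_fun (congrArg CommRingCat.Hom.hom (Spec.map_injective hf)) c
    exact (congrArg b.hom this).symm.trans (i.symm.commRingCatIsoToRingEquiv.apply_symm_apply _)
  · have := RingHom.congr_fun (congrArg CommRingCat.Hom.hom (Spec.map_injective hi)) (b.hom x)
    refine this.symm.trans (congrArg D.q ?_)
    exact i.symm.commRingCatIsoToRingEquiv.symm_apply_apply x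

theorem nonempty_iso_iff {D D' : AlgDef k B₀ C} :
    Nonempty (D.toDefSch.Iso D'.toDefSch) ↔ ∃ e, IsIsoMap D D' e :=
  ⟨fun ⟨φ⟩ => (exists_isIsoMap φ).imp fun _ h => h.1, fun ⟨e, h⟩ => ⟨toIso e h⟩⟩

theorem exists_iso_toDefSch (ξ : DefSch (Spec (CommRingCat.of B₀)) (str k B₀) C) :
    ∃ D : AlgDef k B₀ C, Nonempty (D.toDefSch.Iso ξ) := by
  haveI : IsClosedImmersion (Art.specRes C) := IsClosedImmersion.spec_of_surjective _ C.res_surjective
  haveI : Subsingleton (PrimeSpectrum C.carrier) := ⟨fun a b => PrimeSpectrum.ext <|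
    (IsLocalRing.eq_maximalIdeal (IsArtinianRing.isMaximal_of_isPrime a.asIdeal)).trans
      (IsLocalRing.eq_maximalIdeal (IsArtinianRing.isMaximal_of_isPrime b.asIdeal)).symm⟩
  haveI : Surjective (Art.specRes C) := ⟨fun y => ⟨(⊥ : PrimeSpectrum k), @Subsingleton.elim (PrimeSpectrum C.carrier) _ _ _⟩⟩
  haveI : IsClosedImmersion ξ.i :=
    MorphismProperty.of_isPullback (P := @IsClosedImmersion) ξ.isPullback.flip inferInstance
  haveI : Surjective ξ.i :=
    MorphismProperty.of_isPullback (P := @Surjective) ξ.isPullback.flip inferInstance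
  haveI : IsAffine ξ.total := MorLib.Thick.isAffine_of_thickening ξ.i ξ.i.surjective
  let e := ξ.total.isoSpec
  let B := Γ(ξ.total, ⊤)
  obtain ⟨a, ha⟩ : ∃ a, Spec.map a = e.inv ≫ ξ.f := ⟨Spec.preimage _, Spec.map_preimage _⟩
  obtain ⟨c, hc⟩ : ∃ c, Spec.map c = ξ.i ≫ e.hom := ⟨Spec.preimage _, Spec.map_preimage _⟩
  have hpb : IsPullback (Spec.map c) (str k B₀) (Spec.map a) (Art.specRes C) := by
    rw [ha, hc]
    exact ξ.isPullback.of_iso (Iso.refl _) e (Iso.refl _) (Iso.refl _) (by simp) (by simp) (by simp) (by simp)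
  obtain ⟨hs, hk, hw⟩ := ker_of_isPullback_Spec a.hom C.res.toRingHom c.hom (algebraMap k B₀)
    C.res_surjective hpb
  letI : Algebra C B := a.hom.toAlgebra
  have hflat : Module.Flat C B := by
    refine RingHom.flat_algebraMap_iff.1 ((HasRingHomProperty.Spec_iff (P := @Flat)).1 ?_)
    change Flat (Spec.map a)
    rw [ha]
    infer_instance
  refine ⟨⟨B, hflat, c.hom, hs, fun x => RingHom.congr_fun hw x, by rw [hk, ker_res]; rfl⟩, ⟨e.symm, ?_, ?_⟩⟩
  · exact ha.symm
  · change Spec.map c ≫ e.inv = ξ.i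
    rw [hc, Category.assoc, e.hom_inv_id, Category.comp_id]

/-- `f` exhibits `D` as the reduction of `D'` along `p`. -/
def IsBC (p : C' ⟶ C) (D' : AlgDef k B₀ C') (D : AlgDef k B₀ C) (f : D'.carrier →+* D.carrier) : Prop :=
  Function.Surjective f ∧ RingHom.ker f = (RingHom.ker p.toAlgHom).map (algebraMap C' D'.carrier) ∧
    (∀ c, f (algebraMap C' D'.carrier c) = algebraMap C D.carrier (p c)) ∧ ∀ b, D.q (f b) = D'.q b

theorem IsBC.isPullback {p : C' ⟶ C} (hp : Function.Surjective p) {D' : AlgDef k B₀ C'}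
    {D : AlgDef k B₀ C} {f : D'.carrier →+* D.carrier} (h : IsBC p D' D f) :
    IsPullback (Spec.map (CommRingCat.ofHom f)) D.toDefSch.f D'.toDefSch.f (Art.specMap p) :=
  isPullback_Spec_of_ker _ _ _ _ (RingHom.ext h.2.2.1) hp h.1 (le_of_eq h.2.1)

/-- the isomorphism with the base change -/
def IsBC.iso {p : C' ⟶ C} (hp : Function.Surjective p) {D' : AlgDef k B₀ C'}
    {D : AlgDef k B₀ C} {f : D'.carrier →+* D.carrier} (h : IsBC p D' D f) :
    (D'.toDefSch.baseChange p).Iso D.toDefSch where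
  iso := (IsPullback.of_hasPullback _ _).isoIsPullback _ _ (h.isPullback hp)
  hom_f := IsPullback.isoIsPullback_hom_snd _ _ _ _
  i_hom := by
    rw [← Iso.eq_comp_inv]
    apply pullback.hom_ext
    · rw [Category.assoc]
      refine (DefSch.baseChange_i_fst D'.toDefSch p).trans
        (Eq.trans ?_ (congrArg (D.toDefSch.i ≫ ·) (IsPullback.isoIsPullback_inv_fst _ _ _ _)).symm)
      change Spec.map _ = Spec.map _ ≫ Spec.map _
      rw [← Spec.map_comp, ← CommRingCat.ofHom_comp]
      congr 2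
      exact RingHom.ext fun b => (h.2.2.2 b).symm
    · rw [Category.assoc]
      exact (DefSch.baseChange_i_f D'.toDefSch p).trans (D.toDefSch.i_f.symm.trans
        (congrArg (D.toDefSch.i ≫ ·) (IsPullback.isoIsPullback_inv_snd _ _ _ _)).symm)

theorem IsBC.iso_inv_fst {p : C' ⟶ C} (hp : Function.Surjective p) {D' : AlgDef k B₀ C'}
    {D : AlgDef k B₀ C} {f : D'.carrier →+* D.carrier} (h : IsBC p D' D f) :
    (h.iso hp).iso.inv ≫ pullback.fst _ _ = Spec.map (CommRingCat.ofHom f) :=
  IsPullback.isoIsPullback_inv_fst _ _ _ _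

theorem exists_isBC {p : C' ⟶ C} (hp : Function.Surjective p) {D' : AlgDef k B₀ C'}
    {D : AlgDef k B₀ C} (φ : (D'.toDefSch.baseChange p).Iso D.toDefSch) :
    ∃ f, IsBC p D' D f ∧ φ.iso.inv ≫ pullback.fst _ _ = Spec.map (CommRingCat.ofHom f) := by
  obtain ⟨a, ha⟩ : ∃ a, Spec.map a = φ.iso.inv ≫ pullback.fst D'.toDefSch.f (Art.specMap p) :=
    ⟨Spec.preimage _, Spec.map_preimage _⟩
  have h1 : IsPullback (φ.iso.inv ≫ pullback.fst D'.toDefSch.f (Art.specMap p)) D.toDefSch.f
      D'.toDefSch.f (Art.specMap p) := by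
    refine IsPullback.of_iso_pullback ⟨?_⟩ φ.iso.symm rfl φ.symm.hom_f
    rw [Category.assoc, pullback.condition, ← Category.assoc]
    exact congrArg (· ≫ Art.specMap p) φ.symm.hom_f
  rw [← ha] at h1
  obtain ⟨hs, hk, hw⟩ := ker_of_isPullback_Spec (algebraMap C' D'.carrier) p.toAlgHom.toRingHom a.hom
    (algebraMap C D.carrier) hp h1
  refine ⟨a.hom, ⟨hs, hk, RingHom.congr_fun hw, fun b => ?_⟩, ha.symm⟩
  have hi : D.toDefSch.i ≫ φ.iso.inv ≫ pullback.fst D'.toDefSch.f (Art.specMap p) = D'.toDefSch.i := by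
    have h2 : D.toDefSch.i ≫ φ.iso.inv = _ := φ.symm.i_hom
    rw [← Category.assoc, h2, DefSch.baseChange_i_fst]
  rw [← ha] at hi
  change Spec.map _ ≫ Spec.map a = Spec.map _ at hi
  rw [← Spec.map_comp] at hi
  exact RingHom.congr_fun (congrArg CommRingCat.Hom.hom (Spec.map_injective hi)) b

theorem iso_ext_of_isBC {p : C' ⟶ C} {D' : AlgDef k B₀ C'} {D : AlgDef k B₀ C}
    {φ φ' : (D'.toDefSch.baseChange p).Iso D.toDefSch}
    (h : φ.iso.inv ≫ pullback.fst _ _ = φ'.iso.inv ≫ pullback.fst _ _) : φ.iso = φ'.iso := by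
  have h1 : φ.iso.inv = φ'.iso.inv :=
    pullback.hom_ext h (φ.symm.hom_f.trans φ'.symm.hom_f.symm)
  have h2 : φ.iso.symm = φ'.iso.symm := Iso.ext h1
  simpa using congrArg Iso.symm h2

end AlgDef

end Groth.Agent.AffDefLib

end
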