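import Groth.Agent.AffDefLib.Basic
import Groth.Agent.LocalCrit.Flatness
import Groth.Agent.CotTLib.Exal

/-! First order deformations of an algebra are its square-zero extensions by itself. -/

universe u

open CategoryTheory AlgebraicGeometry TensorProduct

noncomputable section

namespace Groth.Agent.AffDefLib

open ArtFun

theorem ann_mem_of_flat {R : Type u} [CommRing R] {M : Type u} [AddCommGroup M] [Module R M]
    [Module.Flat R M] (x : R) {m : M} (hm : x • m = 0) :
    m ∈ (Submodule.torsionBy R R x) • (⊤ : Submodule R M) := by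
  let f : Unit → R := fun _ => x
  let z : Unit → M := fun _ => m
  obtain ⟨l, c, y, hy, hfc⟩ := Module.Flat.isTrivialRelation_of_sum_smul_eq_zero (f := f) (x := z)
    (by simpa [f, z] using hm)
  rw [show m = z () from rfl, hy ()]
  refine Submodule.sum_mem _ fun j _ => Submodule.smul_mem_smul ?_ trivial
  rw [Submodule.mem_torsionBy_iff, smul_eq_mul]
  simpa [f] using hfc j

theorem flat_of_principal {R : Type u} [CommRing R] {M : Type u} [AddCommGroup M] [Module R M] (x : R)
    (hx : x * x = 0) (hmax : (Ideal.span {x}).IsMaximal) (h : ∀ m : M, x • m = 0 → ∃ m', m = x • m') :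
    Module.Flat R M := by
  refine LocalCrit.flat_of_isNilpotent (Ideal.span {x}) M ⟨2, ?_⟩ ?_ (LocalCrit.keepsInjective_of_isMaximal _ M)
  · rw [Ideal.span_singleton_pow, pow_two, hx]
    simp
  · rw [← LinearMap.ker_eq_bot, eq_bot_iff]
    intro t ht
    let e : Ideal.span ({x} : Set R) := ⟨x, Ideal.mem_span_singleton_self x⟩
    obtain ⟨m, rfl⟩ : ∃ m, t = e ⊗ₜ m := by
      clear ht
      induction t using TensorProduct.induction_on with
      | zero => exact ⟨0, by rw [tmul_zero]⟩
      | add a b ha hb =>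
        obtain ⟨m, rfl⟩ := ha
        obtain ⟨m', rfl⟩ := hb
        exact ⟨m + m', (tmul_add _ _ _).symm⟩
      | tmul a m =>
        obtain ⟨r, hr⟩ := Ideal.mem_span_singleton'.1 a.2
        refine ⟨r • m, ?_⟩
        rw [show a = r • e from Subtype.ext hr.symm, smul_tmul]
    rw [LinearMap.mem_ker, LinearMap.rTensor_tmul, Submodule.subtype_apply] at ht
    have hm : x • m = 0 := by simpa using congrArg (TensorProduct.lid R M) ht
    obtain ⟨m', rfl⟩ := h m hm
    rw [Submodule.mem_bot, ← smul_tmul, show x • e = 0 from Subtype.ext hx, zero_tmul]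

variable {k : Type u} [Field k] {B₀ : Type u} [CommRing B₀] [Algebra k B₀]

/-- A `k`-structure on a first order deformation. -/
abbrev kAlg (D : AlgDef k B₀ (Art.dual k k)) : Algebra k D.carrier :=
  ((algebraMap (Art.dual k k) D.carrier).comp (algebraMap k (Art.dual k k))).toAlgebra

/-- `ε` as an element of `Art.dual` -/
def deps : Art.dual k k := (DualNumber.eps : DualNumber k)

theorem deps_mul_deps : (deps : Art.dual k k) * deps = 0 := DualNumber.eps_mul_eps (R := k)

/-- `ε` in the deformation -/
def epsD (D : AlgDef k B₀ (Art.dual k k)) : D.carrier :=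
  algebraMap (Art.dual k k) D.carrier deps

theorem dual_maximalIdeal :
    IsLocalRing.maximalIdeal (Art.dual k k) = Ideal.span {deps} := by
  refine le_antisymm (fun a ha => ?_) ?_
  · rw [Art.mem_maximalIdeal_iff] at ha
    have key : ∀ d : DualNumber k, TrivSqZeroExt.fst d = 0 →
        TrivSqZeroExt.inl (TrivSqZeroExt.snd d) * DualNumber.eps = d := fun d hd => by
      refine TrivSqZeroExt.ext ?_ ?_
      · simp [hd]
      · simp
    exact Ideal.mem_span_singleton'.2 ⟨_, key a ha⟩
  · rw [Ideal.span_le, Set.singleton_subset_iff]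
    exact (Art.mem_maximalIdeal_iff (Art.dual k k) _).2 rfl

theorem epsD_sq (D : AlgDef k B₀ (Art.dual k k)) : epsD D * epsD D = 0 := by
  unfold epsD
  rw [← map_mul]
  rw [deps_mul_deps, map_zero]

theorem q_eq_zero_iff (D : AlgDef k B₀ (Art.dual k k)) (b : D.carrier) :
    D.q b = 0 ↔ ∃ c, b = epsD D * c := by
  rw [← RingHom.mem_ker, D.ker_q, dual_maximalIdeal, Ideal.map_span, Set.image_singleton,
    Ideal.mem_span_singleton]
  rfl

theorem eps_mul_eq_zero_iff (D : AlgDef k B₀ (Art.dual k k)) (b : D.carrier) :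
    epsD D * b = 0 ↔ D.q b = 0 := by
  constructor
  · intro h
    let e : Art.dual k k := deps
    have hm : b ∈ (Submodule.torsionBy (Art.dual k k) (Art.dual k k) e) • (⊤ : Submodule (Art.dual k k) D.carrier) :=
      ann_mem_of_flat e (by rw [Algebra.smul_def]; exact h)
    rw [← RingHom.mem_ker]
    refine Submodule.smul_induction_on hm (fun r hr y _ => ?_) fun y z hy hz => add_mem hy hz
    have hr' : Art.res (Art.dual k k) r = 0 := by
      rw [← Art.mem_maximalIdeal_iff]
      by_contra hu
      have : IsUnit r := of_not_not fun h' => hu ((IsLocalRing.mem_maximalIdeal r).2 h')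
      have h0 : e = 0 := this.mul_left_eq_zero.1 hr
      exact one_ne_zero (α := k) (congrArg TrivSqZeroExt.snd h0)
    rw [RingHom.mem_ker, Algebra.smul_def, map_mul, D.q_algebraMap, hr', map_zero, zero_mul]
  · intro h
    obtain ⟨c, rfl⟩ := (q_eq_zero_iff D b).1 h
    rw [← mul_assoc, epsD_sq, zero_mul]

/-- a section of the reduction -/
def sec (D : AlgDef k B₀ (Art.dual k k)) (b : B₀) : D.carrier := (D.q_surjective b).choose

theorem q_sec (D : AlgDef k B₀ (Art.dual k k)) (b : B₀) : D.q (sec D b) = b :=
  (D.q_surjective b).choose_spec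

theorem eps_mul_eq (D : AlgDef k B₀ (Art.dual k k)) {x y : D.carrier} (h : D.q x = D.q y) :
    epsD D * x = epsD D * y := by
  rw [← sub_eq_zero, ← mul_sub, eps_mul_eq_zero_iff, map_sub, h, sub_self]

/-- The extension attached to a first order deformation. -/
def toExt (D : AlgDef k B₀ (Art.dual k k)) : Exal.Ext k B₀ B₀ :=
  letI := kAlg D
  { E := D.carrier
    proj :=
      { toRingHom := D.q
        commutes' := fun c => by
          change D.q (algebraMap (Art.dual k k) D.carrier (algebraMap k (Art.dual k k) c)) = _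
          rw [D.q_algebraMap, AlgHom.commutes]
          rfl }
    incl :=
      { toFun := fun z => epsD D * sec D z
        map_zero' := (eps_mul_eq D (by rw [q_sec, map_zero])).trans (mul_zero _)
        map_add' := fun z z' => (eps_mul_eq D (by rw [q_sec, map_add, q_sec, q_sec])).trans (mul_add _ _ _) }
    isExtension :=
      { proj_surjective := D.q_surjective
        incl_injective := fun z z' h => by
          change epsD D * sec D z = epsD D * sec D z' at h
          rw [← sub_eq_zero, ← mul_sub, eps_mul_eq_zero_iff, map_sub, q_sec, q_sec, sub_eq_zero] at h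
          exact h
        exact := fun x => by
          change D.q x = 0 ↔ _
          rw [q_eq_zero_iff]
          constructor
          · rintro ⟨c, rfl⟩
            exact ⟨D.q c, eps_mul_eq D (q_sec D _)⟩
          · rintro ⟨z, rfl⟩
            exact ⟨sec D z, rfl⟩
        mul_incl := fun x z => by
          change x * (epsD D * sec D z) = epsD D * sec D (D.q x • z)
          rw [mul_left_comm]
          exact eps_mul_eq D (by rw [map_mul, q_sec, q_sec, smul_eq_mul]) } }

theorem toExt_equiv_iff (D D' : AlgDef k B₀ (Art.dual k k)) :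
    Nonempty (Exal.Ext.Equiv (toExt D) (toExt D')) ↔ ∃ e, AlgDef.IsIsoMap D D' e := by
  constructor
  · rintro ⟨e⟩
    letI := kAlg D
    letI := kAlg D'
    let e' : D.carrier ≃ₐ[k] D'.carrier := e.toAlgEquiv
    have hp : ∀ b, D'.q (e' b) = D.q b := e.proj_apply
    have he : e' (epsD D) = epsD D' := by
      have h1 : e' (epsD D * sec D 1) = epsD D' * sec D' 1 := e.apply_incl 1
      rwa [eps_mul_eq D (x := sec D 1) (y := 1) (by rw [q_sec, map_one]),
        eps_mul_eq D' (x := sec D' 1) (y := 1) (by rw [q_sec, map_one]), mul_one, mul_one] at h1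
    let f : DualNumber k →ₐ[k] D'.carrier :=
      { toRingHom := algebraMap (Art.dual k k) D'.carrier, commutes' := fun _ => rfl }
    let g : DualNumber k →ₐ[k] D.carrier :=
      { toRingHom := algebraMap (Art.dual k k) D.carrier, commutes' := fun _ => rfl }
    have hfg : e'.toAlgHom.comp g = f := DualNumber.algHom_ext he
    exact ⟨e'.toRingEquiv, fun c => AlgHom.congr_fun hfg c, hp⟩
  · rintro ⟨e, he, hq⟩
    letI := kAlg D
    letI := kAlg D'
    let e' : (toExt D).E ≃ₐ[k] (toExt D').E := AlgEquiv.ofRingEquiv (f := e) fun c => he _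
    refine ⟨⟨e', hq, fun z => ?_⟩⟩
    change e (epsD D * sec D z) = epsD D' * sec D' z
    rw [map_mul, show e (epsD D) = epsD D' from he _]
    exact eps_mul_eq D' (by rw [hq, q_sec, q_sec])

theorem exists_toExt (X : Exal.Ext k B₀ B₀) : ∃ D, Nonempty (Exal.Ext.Equiv (toExt D) X) := by
  have h2 : X.incl 1 * X.incl 1 = 0 := CotTLib.incl_mul_incl X 1 1
  let f : DualNumber k →ₐ[k] X.E := DualNumber.lift ⟨(Algebra.ofId k X.E, X.incl 1), h2, fun _ => Commute.all _ _⟩
  have hfe : f DualNumber.eps = X.incl 1 := DualNumber.lift_apply_eps _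
  have hfc : ∀ c : k, f (algebraMap k (DualNumber k) c) = algebraMap k X.E c := fun c => f.commutes c
  letI : Algebra (Art.dual k k) X.E := (f : DualNumber k →+* X.E).toAlgebra
  let e : Art.dual k k := deps
  have hsm : ∀ x : X.E, e • x = X.incl (X.proj x) := by
    intro x
    rw [Algebra.smul_def]
    change f DualNumber.eps * x = _
    rw [hfe, mul_comm, X.isExtension.mul_incl, smul_eq_mul, mul_one]
  have hflat : Module.Flat (Art.dual k k) X.E := by
    have hmax : (Ideal.span {e}).IsMaximal := dual_maximalIdeal (k := k) ▸ IsLocalRing.maximalIdeal.isMaximal _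
    refine flat_of_principal e deps_mul_deps hmax fun m hm => ?_
    rw [hsm, ← map_zero X.incl] at hm
    obtain ⟨z, hz⟩ := (X.isExtension.exact m).1 (X.isExtension.incl_injective hm)
    obtain ⟨m', hm'⟩ := X.isExtension.proj_surjective z
    exact ⟨m', by rw [hsm, hm', hz]⟩
  have hq : ∀ c : Art.dual k k, X.proj (f c) = algebraMap k B₀ ((Art.dual k k).res c) := by
    let g₁ : DualNumber k →ₐ[k] B₀ := X.proj.comp f
    let g₂ : DualNumber k →ₐ[k] B₀ := (Algebra.ofId k B₀).comp (TrivSqZeroExt.fstHom k k k)
    have : g₁ = g₂ := DualNumber.algHom_ext (by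
      change X.proj (f DualNumber.eps) = algebraMap k B₀ 0
      rw [hfe, CotTLib.proj_incl, map_zero])
    exact fun c => AlgHom.congr_fun this c
  let D : AlgDef k B₀ (Art.dual k k) :=
    { carrier := X.E
      flat := hflat
      q := X.proj.toRingHom
      q_surjective := X.isExtension.proj_surjective
      q_algebraMap := hq
      ker_q := by
        rw [dual_maximalIdeal, Ideal.map_span, Set.image_singleton]
        ext x
        rw [RingHom.mem_ker, Ideal.mem_span_singleton']
        constructor
        · intro hx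
          obtain ⟨z, rfl⟩ := (X.isExtension.exact x).1 hx
          obtain ⟨m', hm'⟩ := X.isExtension.proj_surjective z
          refine ⟨m', ?_⟩
          change m' * f DualNumber.eps = _
          rw [hfe, X.isExtension.mul_incl, hm', smul_eq_mul, mul_one]
        · rintro ⟨m', rfl⟩
          change X.proj (m' * f DualNumber.eps) = 0
          rw [map_mul, hfe, CotTLib.proj_incl, mul_zero] }
  refine ⟨D, ⟨⟨@AlgEquiv.ofRingEquiv k X.E X.E _ _ _ (kAlg D) _ (RingEquiv.refl _) hfc, fun x => rfl,
    fun z => ?_⟩⟩⟩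
  change epsD D * sec D z = X.incl z
  change f DualNumber.eps * sec D z = X.incl z
  rw [hfe, mul_comm, X.isExtension.mul_incl, show X.proj (sec D z) = z from q_sec D z, smul_eq_mul, mul_one]

/-- The main bijection. -/
theorem defFunctor_dual_equiv :
    Nonempty ((defFunctor (Λ := k) (Spec (CommRingCat.of B₀)) (str k B₀)).obj (Art.dual k k) ≃
      Exal.Exalcom k B₀ B₀) := by
  choose F hF using AlgDef.exists_iso_toDefSch (k := k) (B₀ := B₀) (C := Art.dual k k)
  let f : (defFunctor (Λ := k) (Spec (CommRingCat.of B₀)) (str k B₀)).obj (Art.dual k k) → Exal.Exalcom k B₀ B₀ :=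
    Quotient.lift (fun ξ => (toExt (F ξ)).cl) fun ξ ξ' ⟨φ⟩ => by
      obtain ⟨a⟩ := hF ξ
      obtain ⟨b⟩ := hF ξ'
      exact Quotient.sound ((toExt_equiv_iff _ _).2 (AlgDef.nonempty_iso_iff.1 ⟨(a.trans φ).trans b.symm⟩))
  refine ⟨Equiv.ofBijective f ⟨fun p p' => ?_, fun x => ?_⟩⟩
  · refine Quotient.inductionOn₂ p p' fun ξ ξ' h => Quotient.sound ?_
    obtain ⟨a⟩ := hF ξ
    obtain ⟨b⟩ := hF ξ'
    obtain ⟨φ⟩ := AlgDef.nonempty_iso_iff.2 ((toExt_equiv_iff _ _).1 (Quotient.exact h))
    exact ⟨(a.symm.trans φ).trans b⟩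
  · refine Quotient.inductionOn x fun X => ?_
    obtain ⟨D, ⟨e⟩⟩ := exists_toExt X
    refine ⟨D.toDefSch.cl, Quotient.sound ?_⟩
    obtain ⟨a⟩ := hF D.toDefSch
    obtain ⟨e'⟩ := (toExt_equiv_iff (F D.toDefSch) D).2 (AlgDef.nonempty_iso_iff.1 ⟨a⟩)
    exact ⟨e'.trans e⟩

end Groth.Agent.AffDefLib

end
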