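import Groth.Agent.AffDefLib.Dual
import Groth.Prelude.Def_ArtFun2

/-! The class in `T¹` of a first order deformation is linear: the tangent space of a hull is `T¹`. -/

universe u

open CategoryTheory AlgebraicGeometry TensorProduct

noncomputable section

namespace Groth.Agent.AffDefLib

open ArtFun CotT

variable {k : Type u} [Field k] {B₀ : Type u} [CommRing B₀] [Algebra k B₀]
variable {ι σ : Type u} (P : Algebra.Presentation k B₀ ι σ)

/-- Any lift of the generators underlies a lift in the sense of `CotTLib.IsLift`. -/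
theorem exists_isLift_of_hom (X : Exal.Ext k B₀ B₀) (ψ : P.toExtension.Ring →ₐ[k] X.E)
    (hψ : ∀ r, X.proj (ψ r) = algebraMap P.toExtension.Ring B₀ r) : ∃ φ, CotTLib.IsLift P X ψ φ := by
  obtain ⟨ψ₀, φ₀, h⟩ := CotTLib.exists_isLift P X
  have hd : ∀ i, X.proj (ψ (CotTLib.var P i) - ψ₀ (CotTLib.var P i)) = 0 := fun i => by
    rw [map_sub, h.1, hψ, sub_self]
  let θ : L0 P →ₗ[B₀] B₀ := P.cotangentSpaceBasis.constr B₀ fun i => X.kerLift _ (hd i)
  have hθ : ∀ i, X.incl (θ (CotTLib.oneD P (CotTLib.var P i))) = ψ (CotTLib.var P i) - ψ₀ (CotTLib.var P i) := fun i => by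
    have e1 : CotTLib.oneD P (CotTLib.var P i) = P.cotangentSpaceBasis i :=
      (Algebra.Generators.cotangentSpaceBasis_apply P.toGenerators i).symm
    rw [e1, Module.Basis.constr_basis, Exal.Ext.incl_kerLift]
  obtain ⟨ψ', h', hval⟩ := CotTLib.exists_twist P X h θ
  obtain rfl : ψ' = ψ := CotTLib.algHom_ext_var P fun i => by rw [hval, hθ]; abel
  exact ⟨_, h'⟩

/-- `t` is the class of the first order deformation `D`. -/
def IsCls (D : AlgDef k B₀ (Art.dual k k)) (t : T1 P B₀) : Prop :=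
  ∃ ψ φ, CotTLib.IsLift P (toExt D) ψ φ ∧ homToT1 P B₀ φ = t

theorem exists_isCls (D : AlgDef k B₀ (Art.dual k k)) : ∃ t, IsCls P D t := by
  obtain ⟨ψ, φ, h⟩ := CotTLib.exists_isLift P (toExt D)
  exact ⟨_, ψ, φ, h, rfl⟩

variable {P} in
theorem IsCls.unique {D : AlgDef k B₀ (Art.dual k k)} {t t' : T1 P B₀} (h : IsCls P D t) (h' : IsCls P D t') :
    t = t' := by
  obtain ⟨ψ, φ, h, rfl⟩ := h
  obtain ⟨ψ', φ', h', rfl⟩ := h'
  exact h.homToT1_eq P h'

variable {P} in
theorem IsCls.of_iso {D D' : AlgDef k B₀ (Art.dual k k)} {t : T1 P B₀} (h : IsCls P D t)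
    (e : Nonempty (D.toDefSch.Iso D'.toDefSch)) : IsCls P D' t := by
  obtain ⟨e⟩ := (toExt_equiv_iff D D').2 (AlgDef.nonempty_iso_iff.1 e)
  obtain ⟨ψ, φ, h, rfl⟩ := h
  exact ⟨_, φ, h.map_equiv P e, rfl⟩

theorem nonempty_iso_of_isCls {D D' : AlgDef k B₀ (Art.dual k k)} {t : T1 P B₀} (h : IsCls P D t)
    (h' : IsCls P D' t) : Nonempty (D.toDefSch.Iso D'.toDefSch) := by
  obtain ⟨ψ, φ, h, rfl⟩ := h
  obtain ⟨ψ', φ', h', he⟩ := h'
  have h1 : φ' - φ ∈ LinearMap.ker (homToT1 P B₀) := by rw [LinearMap.mem_ker, map_sub, he, sub_self]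
  rw [CotTLib.ker_homToT1] at h1
  obtain ⟨θ, hθ⟩ := h1
  rw [LinearMap.lcomp_apply'] at hθ
  obtain ⟨ψ₂, h₂, -⟩ := CotTLib.exists_twist P (toExt D) h θ
  rw [hθ, add_sub_cancel] at h₂
  exact AlgDef.nonempty_iso_iff.2 ((toExt_equiv_iff D D').1 (h₂.nonempty_equiv P h'))

/-- The classifying bijection. -/
theorem exists_cls : ∃ e : (defFunctor (Λ := k) (Spec (CommRingCat.of B₀)) (str k B₀)).obj (Art.dual k k) ≃ T1 P B₀,
    ∀ (D : AlgDef k B₀ (Art.dual k k)) (t : T1 P B₀), IsCls P D t → e D.toDefSch.cl = t := by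
  choose F hF using AlgDef.exists_iso_toDefSch (k := k) (B₀ := B₀) (C := Art.dual k k)
  choose c hc using exists_isCls (k := k) P
  let f : (defFunctor (Λ := k) (Spec (CommRingCat.of B₀)) (str k B₀)).obj (Art.dual k k) → T1 P B₀ :=
    Quotient.lift (fun ξ => c (F ξ)) fun ξ ξ' ⟨φ⟩ => by
      obtain ⟨a⟩ := hF ξ
      obtain ⟨b⟩ := hF ξ'
      exact ((hc _).of_iso ⟨(a.trans φ).trans b.symm⟩).unique (hc _)
  refine ⟨Equiv.ofBijective f ⟨fun p p' => ?_, fun t => ?_⟩, fun D t h => ?_⟩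
  · refine Quotient.inductionOn₂ p p' fun ξ ξ' h => Quotient.sound ?_
    obtain ⟨a⟩ := hF ξ
    obtain ⟨b⟩ := hF ξ'
    have h' : c (F ξ) = c (F ξ') := h
    obtain ⟨φ⟩ := nonempty_iso_of_isCls P (hc (F ξ)) (h' ▸ hc (F ξ'))
    exact ⟨(a.symm.trans φ).trans b⟩
  · obtain ⟨φ, rfl⟩ := CotTLib.homToT1_surjective P B₀ t
    obtain ⟨X, ψ, h⟩ := CotTLib.exists_ext_of_hom P φ
    obtain ⟨D, ⟨e⟩⟩ := exists_toExt X
    refine ⟨D.toDefSch.cl, ?_⟩
    obtain ⟨a⟩ := hF D.toDefSch
    exact (hc (F D.toDefSch)).unique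
      (IsCls.of_iso ⟨_, φ, h.map_equiv P e.symm, rfl⟩ ⟨a.symm⟩)
  · obtain ⟨a⟩ := hF D.toDefSch
    exact (hc (F D.toDefSch)).unique (h.of_iso ⟨a.symm⟩)

theorem inr_eq (a : k) :
    (TrivSqZeroExt.inr a : DualNumber k) = (algebraMap k (Art.dual k k) a * deps : Art.dual k k) := by
  have key : ∀ x : k, (TrivSqZeroExt.inr x : DualNumber k) = TrivSqZeroExt.inl x * TrivSqZeroExt.inr 1 :=
    fun x => by rw [TrivSqZeroExt.inl_mul_inr, smul_eq_mul, mul_one]
  exact key a

/-- The multiples of `ε` in the deformation. -/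
theorem eps_smul_mul (D : AlgDef k B₀ (Art.dual k k)) (c : k) (w : D.carrier) :
    algebraMap (Art.dual k k) D.carrier (algebraMap k (Art.dual k k) c * deps) * w =
      (toExt D).incl (c • D.q w) := by
  change _ = epsD D * sec D (c • D.q w)
  rw [map_mul, mul_comm (algebraMap (Art.dual k k) D.carrier (algebraMap k (Art.dual k k) c)), mul_assoc]
  refine eps_mul_eq D ?_
  rw [q_sec, map_mul, D.q_algebraMap, AlgHom.commutes, Algebra.smul_def]
  rfl

/-- Lifts along a base change from `C` to the dual numbers. -/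
theorem exists_lift_bc {C : Art k k} {g : C ⟶ Art.dual k k} {E : AlgDef k B₀ C}
    {D : AlgDef k B₀ (Art.dual k k)} {f : E.carrier →+* D.carrier} (hf : AlgDef.IsBC g E D f)
    (ψ : P.toExtension.Ring →+* E.carrier)
    (hψc : ∀ a, ψ (algebraMap k P.toExtension.Ring a) = algebraMap C E.carrier (algebraMap k C a))
    (hψq : ∀ r, E.q (ψ r) = algebraMap P.toExtension.Ring B₀ r) :
    ∃ φ : P.toExtension.Cotangent →ₗ[B₀] B₀, IsCls P D (homToT1 P B₀ φ) ∧
      ∀ r : P.toExtension.ker, f (ψ r) = (toExt D).incl (φ (Algebra.Extension.Cotangent.mk r)) := by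
  letI := kAlg D
  let ψ' : P.toExtension.Ring →ₐ[k] (toExt D).E :=
    { toRingHom := f.comp ψ
      commutes' := fun a => by
        change f (ψ (algebraMap k P.toExtension.Ring a)) = _
        rw [hψc, hf.2.2.1]
        exact congrArg (algebraMap (Art.dual k k) D.carrier) (g.toAlgHom.commutes a) }
  have hψ' : ∀ r, (toExt D).proj (ψ' r) = algebraMap P.toExtension.Ring B₀ r := fun r =>
    (hf.2.2.2 (ψ r)).trans (hψq r)
  obtain ⟨φ, hφ⟩ := exists_isLift_of_hom P _ ψ' hψ'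
  exact ⟨φ, ⟨ψ', φ, hφ, rfl⟩, fun r => hφ.2 r⟩

theorem exists_ψ {C : Art k k} (E : AlgDef k B₀ C) :
    ∃ ψ : P.toExtension.Ring →+* E.carrier,
      (∀ a, ψ (algebraMap k P.toExtension.Ring a) = algebraMap C E.carrier (algebraMap k C a)) ∧
      ∀ r, E.q (ψ r) = algebraMap P.toExtension.Ring B₀ r := by
  choose ℓ hℓ using fun i => E.q_surjective (P.val i)
  let ψ : P.toExtension.Ring →+* E.carrier :=
    (MvPolynomial.eval₂Hom ((algebraMap C E.carrier).comp (algebraMap k C)) ℓ : MvPolynomial ι k →+* E.carrier)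
  refine ⟨ψ, fun a => MvPolynomial.eval₂Hom_C _ _ a, ?_⟩
  refine CotTLib.ring_induction P (fun a => ?_) (fun r s hr hs => ?_) (fun r i hr => ?_)
  · rw [show ψ (algebraMap k P.toExtension.Ring a) = _ from MvPolynomial.eval₂Hom_C _ _ a, RingHom.comp_apply,
      E.q_algebraMap, AlgHom.commutes, ← IsScalarTower.algebraMap_apply k P.toExtension.Ring B₀ a]
    rfl
  · rw [map_add, map_add, hr, hs, map_add]
  · rw [map_mul, map_mul, hr, show ψ (CotTLib.var P i) = _ from MvPolynomial.eval₂Hom_X' _ _ i, hℓ,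
      map_mul, CotTLib.algebraMap_var]

/-- Scalar multiples. -/
theorem isCls_scale (c : k) {E D : AlgDef k B₀ (Art.dual k k)} {f : E.carrier →+* D.carrier}
    (hf : AlgDef.IsBC (Art.scale c) E D f) {t : T1 P B₀} (ht : IsCls P E t) : IsCls P D (c • t) := by
  obtain ⟨ψ, φ, h, rfl⟩ := ht
  letI := kAlg E
  obtain ⟨φ', hD, hv⟩ := exists_lift_bc P hf ψ.toRingHom
    (fun a => ψ.commutes a) h.1
  suffices φ' = c • φ by rwa [this, LinearMap.map_smul_of_tower] at hD
  refine LinearMap.ext fun x => ?_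
  obtain ⟨r, rfl⟩ := Algebra.Extension.Cotangent.mk_surjective x
  refine (toExt D).isExtension.incl_injective ((hv r).symm.trans ?_)
  refine (congrArg f (h.2 r)).trans ?_
  change f (epsD E * sec E (φ (Algebra.Extension.Cotangent.mk r))) = _
  rw [    map_mul, epsD, hf.2.2.1,
    show (Art.scale c : Art.dual k k ⟶ Art.dual k k) deps = algebraMap k (Art.dual k k) c * deps from ?_,
    eps_smul_mul, hf.2.2.2, q_sec]
  · rfl
  · rw [← inr_eq]
    exact TrivSqZeroExt.ext rfl (by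
      change c • TrivSqZeroExt.snd (DualNumber.eps : DualNumber k) = _
      simp)

/-- The two infinitesimals. -/
def dε (v : k × k) : Art.dual2 k k := (TrivSqZeroExt.inr v : TrivSqZeroExt k (k × k))

theorem maximalIdeal_dual2 :
    IsLocalRing.maximalIdeal (Art.dual2 k k) = Ideal.span {dε (1, 0), dε (0, 1)} := by
  refine le_antisymm (fun a ha => ?_) ?_
  · rw [Art.mem_maximalIdeal_iff] at ha
    have key : ∀ d : TrivSqZeroExt k (k × k), TrivSqZeroExt.fst d = 0 →
        TrivSqZeroExt.inl (TrivSqZeroExt.snd d).1 * TrivSqZeroExt.inr ((1, 0) : k × k) +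
          TrivSqZeroExt.inl (TrivSqZeroExt.snd d).2 * TrivSqZeroExt.inr ((0, 1) : k × k) = d := fun d hd => by
      refine TrivSqZeroExt.ext ?_ ?_
      · simp [hd]
      · simp
    exact Ideal.mem_span_pair.2 ⟨_, _, key a ha⟩
  · rw [Ideal.span_le]
    rintro x (rfl | rfl) <;>
    · rw [SetLike.mem_coe, Art.mem_maximalIdeal_iff]
      rfl

/-- Sums. -/
theorem isCls_plus {E : AlgDef k B₀ (Art.dual2 k k)} {D₁ D₂ D : AlgDef k B₀ (Art.dual k k)}
    {f₁ : E.carrier →+* D₁.carrier} {f₂ : E.carrier →+* D₂.carrier} {f : E.carrier →+* D.carrier}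
    (h₁ : AlgDef.IsBC Art.pr₁ E D₁ f₁) (h₂ : AlgDef.IsBC Art.pr₂ E D₂ f₂) (h : AlgDef.IsBC Art.plus E D f)
    {t₁ t₂ : T1 P B₀} (ht₁ : IsCls P D₁ t₁) (ht₂ : IsCls P D₂ t₂) : IsCls P D (t₁ + t₂) := by
  obtain ⟨ψ, hψc, hψq⟩ := exists_ψ P E
  obtain ⟨φ₁, hD₁, hv₁⟩ := exists_lift_bc P h₁ ψ hψc hψq
  obtain ⟨φ₂, hD₂, hv₂⟩ := exists_lift_bc P h₂ ψ hψc hψq
  obtain ⟨φ, hD, hv⟩ := exists_lift_bc P h ψ hψc hψq
  obtain rfl := ht₁.unique hD₁
  obtain rfl := ht₂.unique hD₂
  suffices φ = φ₁ + φ₂ by rwa [← map_add, ← this]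
  refine LinearMap.ext fun x => ?_
  obtain ⟨r, rfl⟩ := Algebra.Extension.Cotangent.mk_surjective x
  have hr : ψ r ∈ RingHom.ker E.q := (hψq r).trans r.2
  rw [E.ker_q, maximalIdeal_dual2, Ideal.map_span, Set.image_pair, Ideal.mem_span_pair] at hr
  obtain ⟨u, v, huv⟩ := hr
  have hg : ∀ (L : k × k →ₗ[k] k) (g : Art.dual2 k k ⟶ Art.dual k k),
      (∀ z, g (dε z) = TrivSqZeroExt.inr (L z)) → ∀ {D' : AlgDef k B₀ (Art.dual k k)} {f' : E.carrier →+* D'.carrier},
      AlgDef.IsBC g E D' f' → f' (ψ r) = (toExt D').incl (L (1, 0) • E.q u + L (0, 1) • E.q v) := by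
    intro L g hgL D' f' hf'
    rw [← huv, map_add, map_mul, map_mul, hf'.2.2.1, hf'.2.2.1, hgL, hgL, inr_eq, inr_eq, mul_comm (f' u),
      mul_comm (f' v), eps_smul_mul, eps_smul_mul, hf'.2.2.2, hf'.2.2.2, map_add]
    rfl
  have key : ∀ (L : k × k →ₗ[k] k) (z : k × k),
      (ArtFun.Art.tszeMap (Λ := k) L) (TrivSqZeroExt.inr z) = TrivSqZeroExt.inr (L z) := fun L z =>
    TrivSqZeroExt.ext rfl rfl
  have e₁ := (toExt D₁).isExtension.incl_injective
    ((hv₁ r).symm.trans (hg (LinearMap.fst k k k) Art.pr₁ (fun z => key _ z) h₁))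
  have e₂ := (toExt D₂).isExtension.incl_injective
    ((hv₂ r).symm.trans (hg (LinearMap.snd k k k) Art.pr₂ (fun z => key _ z) h₂))
  have e₃ := (toExt D).isExtension.incl_injective
    ((hv r).symm.trans (hg (LinearMap.fst k k k + LinearMap.snd k k k) Art.plus (fun z => key _ z) h))
  rw [LinearMap.add_apply, e₁, e₂, e₃]
  simp

theorem cl_map_eq {C C' : Art k k} (g : C' ⟶ C) (hg : Function.Surjective g) (E : AlgDef k B₀ C')
    {ξ : DefSch (Spec (CommRingCat.of B₀)) (str k B₀) C}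
    (hξ : (defFunctor (Λ := k) (Spec (CommRingCat.of B₀)) (str k B₀)).map g E.toDefSch.cl = ξ.cl) :
    ∃ (D : AlgDef k B₀ C) (f : E.carrier →+* D.carrier), AlgDef.IsBC g E D f ∧ D.toDefSch.cl = ξ.cl := by
  obtain ⟨D, ⟨a⟩⟩ := AlgDef.exists_iso_toDefSch ξ
  obtain ⟨b⟩ : Nonempty ((E.toDefSch.baseChange g).Iso ξ) := Quotient.exact hξ
  obtain ⟨f, hf, -⟩ := AlgDef.exists_isBC hg (b.trans a.symm)
  exact ⟨D, f, hf, Quotient.sound ⟨a⟩⟩

section Cot

variable {R : Type u} [CommRing R] [IsLocalRing R] [Algebra k R] {resR : R →ₐ[k] k}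

/-- The homomorphism to a square-zero extension given by a linear map on the cotangent space. -/
theorem exists_tsze (hm : RingHom.ker resR = IsLocalRing.maximalIdeal R) {M : Type u} [AddCommGroup M]
    [Module k M] [Module kᵐᵒᵖ M] [IsCentralScalar k M]
    (ℓ : (IsLocalRing.maximalIdeal R).Cotangent →ₗ[k] M) :
    ∃ φ : R →ₐ[k] TrivSqZeroExt k M, (∀ r, TrivSqZeroExt.fst (φ r) = resR r) ∧
      ∀ m : IsLocalRing.maximalIdeal R,
        TrivSqZeroExt.snd (φ m) = ℓ ((IsLocalRing.maximalIdeal R).toCotangent m) := by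
  let m := IsLocalRing.maximalIdeal R
  have hmem : ∀ r, r - algebraMap k R (resR r) ∈ m := fun r => by
    rw [show m = RingHom.ker resR from hm.symm, RingHom.mem_ker, map_sub, AlgHom.commutes]
    exact sub_self _
  let δ : R →ₗ[k] M :=
    { toFun := fun r => ℓ (m.toCotangent ⟨_, hmem r⟩)
      map_add' := fun r s => by
        rw [← map_add ℓ, ← map_add m.toCotangent]
        congr 2
        refine Subtype.ext ?_
        simp only [map_add, Submodule.coe_add]
        abel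
      map_smul' := fun c r => by
        have e1 : (⟨_, hmem (c • r)⟩ : m) = algebraMap k R c • (⟨_, hmem r⟩ : m) := by
          refine Subtype.ext ?_
          simp only [map_smul, Algebra.smul_def, map_mul, SetLike.val_smul, smul_eq_mul, mul_sub, AlgHom.commutes]
          rfl
        rw [RingHom.id_apply, ← map_smul ℓ, ← algebraMap_smul R c (m.toCotangent _), ← map_smul m.toCotangent, ← e1] }
  have hmul : ∀ r s, δ (r * s) = resR r • δ s + resR s • δ r := fun r s => by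
    change ℓ (m.toCotangent _) = resR r • ℓ (m.toCotangent _) + resR s • ℓ (m.toCotangent _)
    rw [← map_smul ℓ, ← map_smul ℓ, ← map_add ℓ]
    congr 1
    rw [← algebraMap_smul R (resR r) (m.toCotangent _), ← algebraMap_smul R (resR s) (m.toCotangent _),
      ← map_smul, ← map_smul, ← map_add, Ideal.toCotangent_eq]
    have h2 := Ideal.mul_mem_mul (hmem r) (hmem s)
    rw [← pow_two] at h2
    convert h2 using 1
    simp only [map_mul, Submodule.coe_add, SetLike.val_smul, smul_eq_mul]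
    ring
  let f : R →+* TrivSqZeroExt k M :=
    { toFun := fun r => TrivSqZeroExt.inl (resR r) + TrivSqZeroExt.inr (δ r)
      map_one' := by
        have h1 : δ 1 = 0 := by
          have := hmul (1 : R) (1 : R)
          rw [one_mul (1 : R), map_one resR, one_smul k (δ 1), left_eq_add] at this
          exact this
        refine TrivSqZeroExt.ext ?_ ?_ <;> simp [h1]
      map_mul' := fun r s => by
        refine TrivSqZeroExt.ext ?_ ?_
        · simp
        · simp [hmul]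
      map_zero' := by refine TrivSqZeroExt.ext ?_ ?_ <;> simp
      map_add' := fun r s => by refine TrivSqZeroExt.ext ?_ ?_ <;> simp }
  refine ⟨AlgHom.mk f fun c => ?_, fun r => ?_, fun r => ?_⟩
  · have h0 : δ (algebraMap k R c) = 0 := by
      change ℓ (m.toCotangent _) = 0
      rw [show (⟨_, hmem (algebraMap k R c)⟩ : m) = 0 from Subtype.ext (by simp), map_zero, map_zero]
    refine TrivSqZeroExt.ext ?_ ?_
    · simp [f, TrivSqZeroExt.algebraMap_eq_inl]
    · simp [f, h0, TrivSqZeroExt.algebraMap_eq_inl]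
  · change TrivSqZeroExt.fst (TrivSqZeroExt.inl (resR r) + TrivSqZeroExt.inr (δ r)) = _
    simp
  · change TrivSqZeroExt.snd (TrivSqZeroExt.inl (resR r) + TrivSqZeroExt.inr (δ r)) = _
    have h0 : resR r = 0 := by rw [← RingHom.mem_ker (f := resR), hm]; exact r.2
    simp only [TrivSqZeroExt.snd_add, TrivSqZeroExt.snd_inl, TrivSqZeroExt.snd_inr, zero_add]
    change ℓ (m.toCotangent _) = _
    congr 2
    exact Subtype.ext (by simp [h0])

theorem tsze_ext (hm : RingHom.ker resR = IsLocalRing.maximalIdeal R) {M : Type u} [AddCommGroup M]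
    [Module k M] [Module kᵐᵒᵖ M] [IsCentralScalar k M]
    {φ φ' : R →ₐ[k] TrivSqZeroExt k M} (hφ : ∀ r, TrivSqZeroExt.fst (φ r) = resR r)
    (hφ' : ∀ r, TrivSqZeroExt.fst (φ' r) = resR r)
    (h : ∀ m : IsLocalRing.maximalIdeal R, TrivSqZeroExt.snd (φ m) = TrivSqZeroExt.snd (φ' m)) : φ = φ' := by
  refine AlgHom.ext fun r => ?_
  have hmem : r - algebraMap k R (resR r) ∈ IsLocalRing.maximalIdeal R := by
    rw [← hm, RingHom.mem_ker, map_sub, AlgHom.commutes]
    exact sub_self _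
  refine TrivSqZeroExt.ext ((hφ r).trans (hφ' r).symm) ?_
  have h1 := h ⟨_, hmem⟩
  simpa [map_sub, TrivSqZeroExt.algebraMap_eq_inl] using h1

end Cot

/-- A family bijective on the dual numbers identifies `T¹` with the dual of the cotangent space. -/
theorem nonempty_dual_cotangent_equiv {R : Type u} [CommRing R] [IsLocalRing R] [Algebra k R] {resR : R →ₐ[k] k}
    (hm : RingHom.ker resR = IsLocalRing.maximalIdeal R)
    (ξ : Family R resR (defFunctor (Λ := k) (Spec (CommRingCat.of B₀)) (str k B₀)))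
    (hξ : Function.Bijective (ξ.app (Art.dual k k))) :
    Nonempty (Module.Dual k (IsLocalRing.maximalIdeal R).Cotangent ≃ₗ[k] T1 P B₀) := by
  classical
  let F := defFunctor (Λ := k) (Spec (CommRingCat.of B₀)) (str k B₀)
  obtain ⟨e, he⟩ := exists_cls (k := k) P
  choose g hg₁ hg₂ using fun ℓ : Module.Dual k (IsLocalRing.maximalIdeal R).Cotangent => exists_tsze hm ℓ
  let G : Module.Dual k (IsLocalRing.maximalIdeal R).Cotangent → HomSet R resR (Art.dual k k) := fun ℓ =>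
    ⟨g ℓ, AlgHom.ext (hg₁ ℓ)⟩
  have hG : Function.Bijective G := by
    constructor
    · intro ℓ ℓ' h
      refine LinearMap.ext fun x => ?_
      obtain ⟨m, rfl⟩ := Ideal.toCotangent_surjective _ x
      rw [← hg₂, ← hg₂, show g ℓ = g ℓ' from congrArg Subtype.val h]
    · intro φ
      let φ₁ : R →ₐ[k] DualNumber k := φ.1
      have hφ₁ : ∀ r, TrivSqZeroExt.fst (φ₁ r) = resR r := fun r => DFunLike.congr_fun φ.2 r
      let δ : IsLocalRing.maximalIdeal R →ₗ[k] k :=
        { toFun := fun m => TrivSqZeroExt.snd (φ₁ m)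
          map_add' := fun a b => by simp
          map_smul' := fun c a => (congrArg TrivSqZeroExt.snd (φ₁.toLinearMap.map_smul c (a : R))).trans (TrivSqZeroExt.snd_smul ..) }
      have hz : ∀ x ∈ (IsLocalRing.maximalIdeal R) ^ 2, TrivSqZeroExt.snd (φ₁ x) = 0 := by
        intro x hx
        rw [pow_two] at hx
        refine Submodule.mul_induction_on hx (fun a ha b hb => ?_) fun a b ha hb => by
          rw [map_add, TrivSqZeroExt.snd_add, ha, hb, add_zero]
        rw [← hm] at ha hb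
        rw [map_mul, TrivSqZeroExt.snd_mul, hφ₁, hφ₁, show resR a = 0 from ha, show resR b = 0 from hb]
        simp
      choose s hs using (IsLocalRing.maximalIdeal R).toCotangent_surjective
      have hsd : ∀ m, δ (s ((IsLocalRing.maximalIdeal R).toCotangent m)) = δ m := fun m => by
        rw [← sub_eq_zero, ← map_sub]
        exact hz _ ((IsLocalRing.maximalIdeal R).toCotangent_eq.1 (hs _))
      let ℓ : Module.Dual k (IsLocalRing.maximalIdeal R).Cotangent :=
        { toFun := fun x => δ (s x)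
          map_add' := fun x y => by
            obtain ⟨a, rfl⟩ := (IsLocalRing.maximalIdeal R).toCotangent_surjective x
            obtain ⟨b, rfl⟩ := (IsLocalRing.maximalIdeal R).toCotangent_surjective y
            rw [← map_add (IsLocalRing.maximalIdeal R).toCotangent, hsd, hsd, hsd, map_add]
          map_smul' := fun c x => by
            obtain ⟨a, rfl⟩ := (IsLocalRing.maximalIdeal R).toCotangent_surjective x
            rw [← algebraMap_smul R c ((IsLocalRing.maximalIdeal R).toCotangent a),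
              ← map_smul (IsLocalRing.maximalIdeal R).toCotangent, algebraMap_smul, hsd, hsd, map_smul]
            rfl }
      exact ⟨ℓ, Subtype.ext (tsze_ext hm (hg₁ ℓ) hφ₁ fun m => (hg₂ ℓ m).trans (hsd m))⟩
  let Φ : Module.Dual k (IsLocalRing.maximalIdeal R).Cotangent → T1 P B₀ := fun ℓ => e (ξ.app _ (G ℓ))
  have hΦ : Function.Bijective Φ := e.bijective.comp (hξ.comp hG)
  have key : ∀ {C : Art k k} (gg : C ⟶ Art.dual k k), Function.Surjective gg → ∀ (E : AlgDef k B₀ C)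
      (z : HomSet R resR C) (ℓ : Module.Dual k (IsLocalRing.maximalIdeal R).Cotangent),
      E.toDefSch.cl = ξ.app C z → HomSet.map gg z = G ℓ →
      ∃ (D : AlgDef k B₀ (Art.dual k k)) (f : E.carrier →+* D.carrier),
        AlgDef.IsBC gg E D f ∧ IsCls P D (Φ ℓ) := by
    intro C gg hgg E z ℓ hE hz
    obtain ⟨η, hη⟩ := Quotient.exists_rep (ξ.app _ (G ℓ))
    obtain ⟨D, f, hf, hD⟩ := cl_map_eq gg hgg E (ξ := η)
      (by rw [hE]; exact ((ξ.natural gg z).symm.trans (congrArg (ξ.app _) hz)).trans hη.symm)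
    obtain ⟨t, ht⟩ := exists_isCls P D
    refine ⟨D, f, hf, ?_⟩
    rwa [show Φ ℓ = t from (congrArg e (hη.symm.trans hD.symm)).trans (he D t ht)]
  have hadd : ∀ ℓ₁ ℓ₂, Φ (ℓ₁ + ℓ₂) = Φ ℓ₁ + Φ ℓ₂ := by
    intro ℓ₁ ℓ₂
    obtain ⟨φ, hφ₁, hφ₂⟩ := exists_tsze hm (LinearMap.prod ℓ₁ ℓ₂)
    let z : HomSet R resR (Art.dual2 k k) := ⟨φ, AlgHom.ext hφ₁⟩
    obtain ⟨η, hη⟩ := Quotient.exists_rep (ξ.app _ z)
    obtain ⟨E, ⟨a⟩⟩ := AlgDef.exists_iso_toDefSch η
    have hE : E.toDefSch.cl = ξ.app _ z := ((Quotient.sound ⟨a⟩ : E.toDefSch.cl = η.cl)).trans hη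
    have hmap : ∀ (L : k × k →ₗ[k] k) (gg : Art.dual2 k k ⟶ Art.dual k k),
        gg.toAlgHom = ArtFun.Art.tszeMap (Λ := k) L →
        HomSet.map gg z = G (L ∘ₗ LinearMap.prod ℓ₁ ℓ₂) := by
      intro L gg hL
      refine Subtype.ext (tsze_ext hm (fun r => ?_) (hg₁ _) fun m => ?_)
      · exact (DFunLike.congr_fun gg.res_comp (φ r)).trans (hφ₁ r)
      · rw [hg₂, LinearMap.comp_apply, ← hφ₂ m]
        exact congrArg TrivSqZeroExt.snd (DFunLike.congr_fun hL (φ m))
    have hs₁ : Function.Surjective (Art.pr₁ : Art.dual2 k k ⟶ Art.dual k k).toAlgHom := fun (x : DualNumber k) =>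
      ⟨(((x.fst, (x.snd, 0)) : k × (k × k)) : TrivSqZeroExt k (k × k)), rfl⟩
    have hs₂ : Function.Surjective (Art.pr₂ : Art.dual2 k k ⟶ Art.dual k k).toAlgHom := fun (x : DualNumber k) =>
      ⟨(((x.fst, (0, x.snd)) : k × (k × k)) : TrivSqZeroExt k (k × k)), rfl⟩
    have hs : Function.Surjective (Art.plus : Art.dual2 k k ⟶ Art.dual k k).toAlgHom := fun (x : DualNumber k) =>
      ⟨(((x.fst, (x.snd, 0)) : k × (k × k)) : TrivSqZeroExt k (k × k)), by
        refine TrivSqZeroExt.ext rfl ?_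
        change x.snd + (0 : k) = x.snd
        rw [add_zero]⟩
    obtain ⟨D₁, f₁, h₁, ht₁⟩ := key _ hs₁ E z ℓ₁ hE ((hmap (LinearMap.fst k k k) _ rfl).trans (congrArg G (LinearMap.fst_prod _ _)))
    obtain ⟨D₂, f₂, h₂, ht₂⟩ := key _ hs₂ E z ℓ₂ hE ((hmap (LinearMap.snd k k k) _ rfl).trans (congrArg G (LinearMap.snd_prod _ _)))
    obtain ⟨D, f, h, ht⟩ := key _ hs E z (ℓ₁ + ℓ₂) hE ((hmap (LinearMap.fst k k k + LinearMap.snd k k k) _ rfl).trans
      (congrArg G (LinearMap.ext fun x => rfl)))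
    exact ht.unique (isCls_plus P h₁ h₂ h ht₁ ht₂)
  have hsmul : ∀ (c : k) ℓ, Φ (c • ℓ) = c • Φ ℓ := by
    intro c ℓ
    rcases eq_or_ne c 0 with rfl | hc
    · rw [zero_smul, zero_smul]
      simpa using hadd 0 0
    obtain ⟨η, hη⟩ := Quotient.exists_rep (ξ.app _ (G ℓ))
    obtain ⟨E, ⟨a⟩⟩ := AlgDef.exists_iso_toDefSch η
    have hE : E.toDefSch.cl = ξ.app _ (G ℓ) := ((Quotient.sound ⟨a⟩ : E.toDefSch.cl = η.cl)).trans hη
    obtain ⟨t, ht⟩ := exists_isCls P E
    have htΦ : Φ ℓ = t := (congrArg e hE.symm).trans (he E t ht)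
    have hs : Function.Surjective (Art.scale c : Art.dual k k ⟶ Art.dual k k).toAlgHom := fun (x : DualNumber k) =>
      ⟨(((x.fst, c⁻¹ * x.snd) : k × k) : DualNumber k), by
        refine TrivSqZeroExt.ext rfl ?_
        change c * (c⁻¹ * x.snd) = x.snd
        rw [← mul_assoc, mul_inv_cancel₀ hc, one_mul]⟩
    have hmap : HomSet.map (Art.scale c) (G ℓ) = G (c • ℓ) := by
      refine Subtype.ext (tsze_ext hm (fun r => ?_) (hg₁ _) fun m => ?_)
      · exact (DFunLike.congr_fun (Art.scale c : Art.dual k k ⟶ Art.dual k k).res_comp (g ℓ r)).trans (hg₁ ℓ r)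
      · rw [hg₂, LinearMap.smul_apply, ← hg₂ ℓ m]
        rfl
    obtain ⟨D, f, hf, hD⟩ := key _ hs E (G ℓ) (c • ℓ) hE hmap
    rw [htΦ]
    exact hD.unique (isCls_scale P c hf ht)
  exact ⟨LinearEquiv.ofBijective { toFun := Φ, map_add' := hadd, map_smul' := hsmul } hΦ⟩

end Groth.Agent.AffDefLib

end
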