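import Groth.Agent.AffDefLib.Obstruction
import Groth.Agent.AffDefLib.TangentClass
import Groth.Agent.ArtFunLib.ObsBound
import Groth.Agent.ArtFunLib.Hull.Mor

/-! The obstruction space `T²` bounds the relations of a hull of an affine deformation functor. -/

universe u

open CategoryTheory AlgebraicGeometry TensorProduct

noncomputable section

namespace Groth.Agent.AffDefLib

open ArtFun CotT IsLocalRing

variable {k : Type u} [Field k] {B₀ : Type u} [CommRing B₀] [Algebra k B₀]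
variable {ι σ : Type u} (P : Algebra.Presentation k B₀ ι σ)
variable {C'' C' C : Art k k} {p : C' ⟶ C}

theorem toD_map (D : AlgDef k B₀ C) (m : C'' ⟶ C') (x : MvPolynomial ι C'') :
    toD p D P (MvPolynomial.map m.toAlgHom.toRingHom x) = toD (m ≫ p) D P x := by
  have : (toD p D P).comp (MvPolynomial.map m.toAlgHom.toRingHom) = toD (m ≫ p) D P := by
    refine MvPolynomial.ringHom_ext (fun c => ?_) fun i => ?_
    · rw [RingHom.comp_apply, MvPolynomial.map_C, toD_C, toD_C]
      rfl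
    · rw [RingHom.comp_apply, MvPolynomial.map_X, toD, toD, MvPolynomial.eval₂Hom_X', MvPolynomial.eval₂Hom_X']
  exact RingHom.congr_fun this x

theorem red_map (m : C'' ⟶ C') (x : MvPolynomial ι C'') :
    red (C' := C') P (MvPolynomial.map m.toAlgHom.toRingHom x) = red (C' := C'') P x := by
  change MvPolynomial.map C'.res.toRingHom (MvPolynomial.map m.toAlgHom.toRingHom x) = _
  rw [MvPolynomial.map_map]
  exact RingHom.congr_fun (congrArg MvPolynomial.map (congrArg AlgHom.toRingHom m.res_comp)) x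

theorem sub_res_mem (C : Art k k) (c : C) :
    c - algebraMap k C (C.res c) ∈ maximalIdeal C := by
  rw [Art.mem_maximalIdeal_iff, map_sub, AlgHom.commutes]
  exact sub_self _

theorem smul_eq_of_semismall (hp : Art.IsSemismallExt p) (c : C') {x : C'} (hx : x ∈ RingHom.ker p.toAlgHom) :
    c * x = algebraMap k C' (C'.res c) * x := by
  rw [← sub_eq_zero, ← sub_mul]
  exact j_mul_mem hp _ (sub_res_mem C' c) x hx

/-- The hyperplane in the kernel cut out by a functional. -/
def kerFun (hp : Art.IsSemismallExt p) (l : Module.Dual k ↥(RingHom.ker p.toAlgHom)) : Ideal C' where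
  carrier := {x | ∃ h : x ∈ RingHom.ker p.toAlgHom, l ⟨x, h⟩ = 0}
  zero_mem' := ⟨zero_mem _, map_zero l⟩
  add_mem' := fun ⟨ha, ha'⟩ ⟨hb, hb'⟩ =>
    ⟨add_mem ha hb, (l.map_add ⟨_, ha⟩ ⟨_, hb⟩).trans (by rw [ha', hb', add_zero])⟩
  smul_mem' := fun c x ⟨h, h'⟩ => ⟨Ideal.mul_mem_left _ c h, by
    have e : (⟨c • x, Ideal.mul_mem_left _ c h⟩ : ↥(RingHom.ker p.toAlgHom)) = C'.res c • ⟨x, h⟩ := by
      refine Subtype.ext ?_
      change c * x = C'.res c • x
      rw [Algebra.smul_def, smul_eq_of_semismall hp c h]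
    rw [e, map_smul, h', smul_zero]⟩

theorem finite_ker (hp : Art.IsSemismallExt p) : Module.Finite k ↥(RingHom.ker p.toAlgHom) := by
  obtain ⟨s, hs⟩ := (Module.Finite.iff_fg.2 (IsNoetherian.noetherian (RingHom.ker p.toAlgHom))).fg_top
  refine ⟨⟨s, Submodule.eq_top_iff'.2 fun y => ?_⟩⟩
  have hy : y ∈ Submodule.span C' (s : Set ↥(RingHom.ker p.toAlgHom)) := hs ▸ Submodule.mem_top
  induction hy using Submodule.span_induction with
  | mem z hz => exact Submodule.subset_span hz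
  | zero => exact Submodule.zero_mem _
  | add a b _ _ ha hb => exact Submodule.add_mem _ ha hb
  | smul c z _ hz =>
    have e : c • z = C'.res c • z := by
      refine Subtype.ext ?_
      change c * (z : C') = C'.res c • (z : C')
      rw [Algebra.smul_def, smul_eq_of_semismall hp c z.2]
    rw [e]
    exact Submodule.smul_mem _ _ hz

theorem kerFun_le (hp : Art.IsSemismallExt p) (l : Module.Dual k ↥(RingHom.ker p.toAlgHom)) :
    kerFun hp l ≤ RingHom.ker p.toAlgHom := fun _ h => h.1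

theorem kerFun_le_max (hp : Art.IsSemismallExt p) (l : Module.Dual k ↥(RingHom.ker p.toAlgHom)) :
    kerFun hp l ≤ maximalIdeal C' := (kerFun_le hp l).trans (kerP_le p)

theorem exists_small (hp : Art.IsSemismallExt p) {l : Module.Dual k ↥(RingHom.ker p.toAlgHom)} (hl : l ≠ 0) :
    ∃ j : Art.quot C' (kerFun hp l) (kerFun_le_max hp l),
      Art.IsSmallExt (Art.quotFactor (kerFun_le_max hp l) p (kerFun_le hp l)) ∧
      RingHom.ker (Art.quotFactor (kerFun_le_max hp l) p (kerFun_le hp l)).toAlgHom = Ideal.span {j} ∧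
      (∀ c, j * c = 0 ↔ (Art.quot C' (kerFun hp l) (kerFun_le_max hp l)).res c = 0) ∧
      ∀ x : ↥(RingHom.ker p.toAlgHom),
        Art.quotMk C' (kerFun hp l) (kerFun_le_max hp l) (x : C') = algebraMap k _ (l x) * j := by
  obtain ⟨x₀, hx₀⟩ := DFunLike.ne_iff.1 hl
  let j₀ : ↥(RingHom.ker p.toAlgHom) := (l x₀)⁻¹ • x₀
  have hj₀ : l j₀ = 1 := by
    rw [map_smul, smul_eq_mul]
    exact inv_mul_cancel₀ hx₀
  let hK := kerFun_le_max hp l
  let mk := Art.quotMk C' (kerFun hp l) hK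
  let j := mk (j₀ : C')
  have hval : ∀ x : ↥(RingHom.ker p.toAlgHom), mk (x : C') = algebraMap k _ (l x) * j := by
    intro x
    change mk.toAlgHom (x : C') = algebraMap k _ (l x) * mk.toAlgHom (j₀ : C')
    rw [← sub_eq_zero, ← mk.toAlgHom.commutes, ← map_mul, ← map_sub]
    refine Ideal.Quotient.eq_zero_iff_mem.2 ?_
    have e : (x : C') - algebraMap k C' (l x) * (j₀ : C') = ((x - l x • j₀ : ↥(RingHom.ker p.toAlgHom)) : C') := by
      rw [Submodule.coe_sub, ← Algebra.smul_def]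
      rfl
    rw [e]
    exact ⟨Subtype.mem _, by rw [map_sub, map_smul, hj₀, smul_eq_mul, mul_one, sub_self]⟩
  have hj0 : j ≠ 0 := fun h => by
    obtain ⟨h', h''⟩ := (Ideal.Quotient.eq_zero_iff_mem.1 h : (j₀ : C') ∈ kerFun hp l)
    exact one_ne_zero (hj₀.symm.trans h'')
  have hker : RingHom.ker (Art.quotFactor hK p (kerFun_le hp l)).toAlgHom = Ideal.span {j} := by
    refine le_antisymm (fun y hy => ?_) ?_
    · obtain ⟨x, rfl⟩ := Art.quotMk_surjective C' (kerFun hp l) hK y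
      have hx : x ∈ RingHom.ker p.toAlgHom := hy
      exact Ideal.mem_span_singleton'.2 ⟨_, (hval ⟨x, hx⟩).symm⟩
    · rw [Ideal.span_le, Set.singleton_subset_iff]
      exact j₀.2
  have hann : ∀ c, (Art.quot C' (kerFun hp l) hK).res c = 0 → j * c = 0 := by
    intro c hc
    obtain ⟨x, rfl⟩ := Art.quotMk_surjective C' (kerFun hp l) hK c
    have hx : x ∈ maximalIdeal C' := (Art.mem_maximalIdeal_iff C' x).2 hc
    change mk.toAlgHom (j₀ : C') * mk.toAlgHom x = 0
    rw [← map_mul, mul_comm, j_mul_mem hp x hx _ j₀.2, map_zero]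
  refine ⟨j, ⟨fun y => ?_, ?_, ⟨⟨j, hker⟩⟩, ?_⟩, hker, fun c => ⟨fun h => ?_, hann c⟩, hval⟩
  · obtain ⟨x, hx⟩ := hp.1 y
    exact ⟨mk x, hx⟩
  · rw [hker, Ne, Ideal.span_singleton_eq_bot]
    exact hj0
  · rw [hker, eq_bot_iff, Ideal.mul_le]
    intro a ha b hb
    obtain ⟨t, rfl⟩ := Ideal.mem_span_singleton'.1 hb
    rw [Ideal.mem_bot, mul_left_comm, mul_comm a j, hann a ((Art.mem_maximalIdeal_iff _ a).1 ha), mul_zero]
  · rw [← Art.mem_maximalIdeal_iff]
    by_contra hu
    exact hj0 ((IsLocalRing.notMem_maximalIdeal.1 hu).mul_left_eq_zero.1 h)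

theorem exists_red_map_eq (hp : Art.IsSemismallExt p) {K : Ideal C'} (hK : K ≤ maximalIdeal C')
    (hKp : K ≤ RingHom.ker p.toAlgHom) (D : AlgDef k B₀ C) (F : σ → LRing C' P)
    (hF : ∀ s, toD p D P (F s) = 0) (hFred : ∀ s, red P (F s) = rel P s) :
    (∀ s, toD (Art.quotFactor hK p hKp) D P (MvPolynomial.map (Art.quotMk C' K hK).toAlgHom.toRingHom (F s)) = 0) ∧
      ∀ s, red P (MvPolynomial.map (Art.quotMk C' K hK).toAlgHom.toRingHom (F s)) = rel P s :=
  ⟨fun s => by rw [toD_map, Art.quotMk_quotFactor]; exact hF s, fun s => by rw [red_map]; exact hFred s⟩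

theorem uniq_obstruction [Fintype σ] (D : AlgDef k B₀ C) (hp : Art.IsSmallExt p) {j : C'}
    (hj : RingHom.ker p.toAlgHom = Ideal.span {j}) (hjc : ∀ c, j * c = 0 ↔ C'.res c = 0)
    (F : σ → LRing C' P) (hF : ∀ s, toD p D P (F s) = 0) (Q Q' : σ → LRing C' P) (g g' : LRing C' P)
    (hQ : ∀ s, red P (Q s) = red P (Q' s)) (h : ∑ s, Q s * F s = MvPolynomial.C j * g)
    (h' : ∑ s, Q' s * F s = MvPolynomial.C j * g') :
    algebraMap P.toExtension.Ring B₀ (red P g) = algebraMap P.toExtension.Ring B₀ (red P g') := by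
  obtain ⟨hclaim, -, -⟩ := flat_facts D P hp hj hjc
  have h1 : MvPolynomial.C j * (g - g') ∈ maxR C' P * kerD p D P := by
    rw [mul_sub, ← h, ← h', ← Finset.sum_sub_distrib]
    refine Ideal.sum_mem _ fun s _ => ?_
    rw [← sub_mul]
    exact Ideal.mul_mem_mul (by rw [← ker_red, RingHom.mem_ker, map_sub, hQ, sub_self]) (hF s)
  have h2 : algebraMap P.toExtension.Ring B₀ (red P (g - g')) = 0 := hclaim _ h1
  rwa [map_sub, map_sub, sub_eq_zero] at h2

variable {R : Type u} [CommRing R] [Algebra k R] {resR : R →ₐ[k] k}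

set_option maxHeartbeats 2000000 in
/-- If a map into the base of a semismall extension lifts to no proper intermediate extension, the
kernel has dimension at most that of `T²`. -/
theorem finrank_ker_le [Finite σ] [Module.Finite k (T2 P B₀)]
    (ξ : Family R resR (defFunctor (Λ := k) (Spec (CommRingCat.of B₀)) (str k B₀))) (hξ : IsVersal ξ)
    (hp : Art.IsSemismallExt p) (φ : HomSet R resR C) [Module.Finite k ↥(RingHom.ker p.toAlgHom)]
    (hno : ∀ (K : Ideal C') (hK : K ≤ maximalIdeal C') (hKp : K ≤ RingHom.ker p.toAlgHom),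
      (∃ v : HomSet R resR (Art.quot C' K hK), HomSet.map (Art.quotFactor hK p hKp) v = φ) →
        RingHom.ker p.toAlgHom ≤ K) :
    Module.finrank k ↥(RingHom.ker p.toAlgHom) ≤ Module.finrank k (T2 P B₀) := by
  classical
  cases nonempty_fintype σ
  obtain ⟨η, hη⟩ := Quotient.exists_rep (ξ.app C φ)
  obtain ⟨D, ⟨a⟩⟩ := AlgDef.exists_iso_toDefSch η
  have hD : D.toDefSch.cl = ξ.app C φ := ((Quotient.sound ⟨a⟩ : D.toDefSch.cl = η.cl)).trans hη
  let V := ↥(RingHom.ker p.toAlgHom)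
  by_cases hV : ∀ l : Module.Dual k V, l = 0
  · have hs : Subsingleton (Module.Dual k V) := ⟨fun l l' => (hV l).trans (hV l').symm⟩
    rw [← Subspace.dual_finrank_eq, Module.finrank_zero_of_subsingleton]
    exact Nat.zero_le _
  obtain ⟨l₀, hl₀⟩ := not_forall.1 hV
  choose F hF hFred using fun s => exists_red_eq (p := p) (D := D) P hp ⟨rel P s, P.relation_mem_ker s⟩
  replace hFred : ∀ s, red P (F s) = rel P s := hFred
  choose jl hsm hjl hjlc hval using fun (l : {l : Module.Dual k V // l ≠ 0}) => exists_small (p := p) hp l.2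
  let μ (l : Module.Dual k V) := (Art.quotMk C' (kerFun hp l) (kerFun_le_max hp l)).toAlgHom.toRingHom
  let Fl (l : Module.Dual k V) : σ → LRing (Art.quot C' (kerFun hp l) (kerFun_le_max hp l)) P :=
    fun s => MvPolynomial.map (μ l) (F s)
  have hFl := fun l : {l : Module.Dual k V // l ≠ 0} =>
    exists_red_map_eq P hp (kerFun_le_max hp l.1) (kerFun_le hp l.1) D F hF hFred
  choose δ hδ using fun l : {l : Module.Dual k V // l ≠ 0} =>
    exists_obstruction D P (hsm l) (hjl l) (hjlc l) (Fl l.1) (hFl l).1 (hFl l).2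
  -- relations lifted to `C'`
  have hrel : ∀ q : relKer P, ∃ Q : σ → LRing C' P, (∀ s, red P (Q s) = (q : relMod P) s) ∧
      ∀ m, (∑ s, Q s * F s).coeff m ∈ RingHom.ker p.toAlgHom := by
    intro q
    obtain ⟨Q₀, g, hQ₀, hsum, -⟩ := hδ ⟨l₀, hl₀⟩ q
    choose Q hQ using fun s => MvPolynomial.map_surjective (σ := ι) (μ l₀)
      (Art.quotMk_surjective C' _ (kerFun_le_max hp l₀)) (Q₀ s)
    refine ⟨Q, fun s => ?_, fun m => ?_⟩
    · rw [← hQ₀ s, ← hQ s]
      exact (red_map P (Art.quotMk C' _ (kerFun_le_max hp l₀)) (Q s)).symm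
    · have h1 : MvPolynomial.map (μ l₀) (∑ s, Q s * F s) = MvPolynomial.C (jl ⟨l₀, hl₀⟩) * g := by
        rw [map_sum, ← hsum]
        refine Finset.sum_congr rfl fun s _ => ?_
        rw [map_mul, hQ]
      have h2 := congrArg (MvPolynomial.coeff m) h1
      rw [MvPolynomial.coeff_map, MvPolynomial.coeff_C_mul] at h2
      have h3 : jl ⟨l₀, hl₀⟩ * MvPolynomial.coeff m g ∈
          RingHom.ker (Art.quotFactor (kerFun_le_max hp l₀) p (kerFun_le hp l₀)).toAlgHom := by
        rw [hjl ⟨l₀, hl₀⟩]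
        exact Ideal.mul_mem_right _ _ (Ideal.mem_span_singleton_self _)
      rw [← h2] at h3
      exact h3
  choose Q hQ hco using hrel
  let X (q : relKer P) : MvPolynomial ι C' := ∑ s, Q q s * F s
  let θ (q : relKer P) : Module.Dual k V →ₗ[k] B₀ :=
    ∑ m ∈ (X q).support, ((MvPolynomial.aeval P.val).toLinearMap ∘ₗ MvPolynomial.monomial (R := k) (σ := ι) m) ∘ₗ
      Module.Dual.eval k V ⟨_, hco q m⟩
  have hθ : ∀ (l : {l : Module.Dual k V // l ≠ 0}) q, δ l (CotTLib.cl P q) = θ q l.1 := by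
    intro l q
    obtain ⟨Q', g', hQ', hsum', hg'⟩ := hδ l q
    let G : LRing (Art.quot C' (kerFun hp l.1) (kerFun_le_max hp l.1)) P :=
      ∑ m ∈ (X q).support, MvPolynomial.monomial m (algebraMap k _ (l.1 ⟨_, hco q m⟩))
    have hG : ∑ s, MvPolynomial.map (μ l.1) (Q q s) * Fl l.1 s = MvPolynomial.C (jl l) * G := by
      rw [show ∑ s, MvPolynomial.map (μ l.1) (Q q s) * Fl l.1 s = MvPolynomial.map (μ l.1) (X q) by
        rw [map_sum]; exact Finset.sum_congr rfl fun s _ => (map_mul _ _ _).symm]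
      conv_lhs => rw [(X q).as_sum]
      rw [map_sum, Finset.mul_sum]
      refine Finset.sum_congr rfl fun m _ => ?_
      rw [MvPolynomial.map_monomial, MvPolynomial.C_mul_monomial]
      exact congrArg (MvPolynomial.monomial m) ((hval l ⟨_, hco q m⟩).trans (mul_comm _ _))
    rw [← hg', uniq_obstruction P D (hsm l) (hjl l) (hjlc l) (Fl l.1) (hFl l).1 Q' _ g' G
      (fun s => by rw [hQ']; exact ((red_map P (Art.quotMk C' _ (kerFun_le_max hp l.1)) (Q q s)).trans (hQ q s)).symm)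
      hsum' hG]
    rw [map_sum, map_sum, LinearMap.sum_apply]
    refine Finset.sum_congr rfl fun m _ => ?_
    rw [algebraMap_toExtension]
    refine congrArg (MvPolynomial.aeval P.val) ?_
    change MvPolynomial.map _ (MvPolynomial.monomial m _) = _
    rw [MvPolynomial.map_monomial]
    exact congrArg (MvPolynomial.monomial m) (AlgHom.commutes _ _)
  let Δ (l : Module.Dual k V) : L2 P →ₗ[B₀] B₀ := if h : l = 0 then 0 else δ ⟨l, h⟩
  have hΔ : ∀ l q, Δ l (CotTLib.cl P q) = θ q l := by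
    intro l q
    by_cases h : l = 0
    · simp only [Δ, dif_pos h]
      rw [h, map_zero]
      rfl
    · simp only [Δ, dif_neg h]
      exact hθ ⟨l, h⟩ q
  let Θ : Module.Dual k V →ₗ[k] T2 P B₀ :=
    { toFun := fun l => toT2 P B₀ (Δ l)
      map_add' := fun l l' => by
        rw [← map_add]
        congr 1
        refine LinearMap.ext fun y => ?_
        obtain ⟨q, rfl⟩ := CotTLib.cl_surjective P y
        rw [LinearMap.add_apply, hΔ, hΔ, hΔ, map_add]
      map_smul' := fun c l => by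
        rw [RingHom.id_apply, ← LinearMap.map_smul_of_tower (toT2 P B₀)]
        congr 1
        refine LinearMap.ext fun y => ?_
        obtain ⟨q, rfl⟩ := CotTLib.cl_surjective P y
        rw [LinearMap.smul_apply, hΔ, hΔ, map_smul] }
  have hinj : Function.Injective Θ := by
    rw [injective_iff_map_eq_zero]
    intro l hl
    by_contra hne
    have h0 : toT2 P B₀ (δ ⟨l, hne⟩) = 0 := by
      change toT2 P B₀ (Δ l) = 0 at hl
      simpa only [Δ, dif_neg hne] using hl
    obtain ⟨F', hF', hF'red, hrel'⟩ := exists_exact_lifts' D P (hsm ⟨l, hne⟩) (hjl ⟨l, hne⟩) (Fl l)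
      (hFl ⟨l, hne⟩).1 (hFl ⟨l, hne⟩).2 (δ ⟨l, hne⟩) (hδ ⟨l, hne⟩) h0
    obtain ⟨D', f, hf⟩ :=
      exists_isBC_of_exact D P (hsm ⟨l, hne⟩) (hjl ⟨l, hne⟩) (hjlc ⟨l, hne⟩) F' hF' hF'red hrel'
    have hmap : (defFunctor (Λ := k) (Spec (CommRingCat.of B₀)) (str k B₀)).map
        (Art.quotFactor (kerFun_le_max hp l) p (kerFun_le hp l)) D'.toDefSch.cl = ξ.app C φ :=
      ((Quotient.sound ⟨hf.iso (hsm ⟨l, hne⟩).1⟩ :
        (D'.toDefSch.baseChange (Art.quotFactor (kerFun_le_max hp l) p (kerFun_le hp l))).cl = D.toDefSch.cl)).trans hD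
    obtain ⟨v, hv, -⟩ := hξ _ (hsm ⟨l, hne⟩).1 φ _ hmap
    have hle := hno _ (kerFun_le_max hp l) (kerFun_le hp l) ⟨v, hv⟩
    refine hne (LinearMap.ext fun x => ?_)
    obtain ⟨h', h''⟩ := hle x.2
    exact h''
  rw [← Subspace.dual_finrank_eq]
  exact LinearMap.finrank_le_finrank_of_injective hinj

/-- The relations of a minimal presentation of a versal coefficient ring. -/
theorem exists_generators {S : Type u} [CommRing S] [IsLocalRing S] [IsNoetherianRing S] [Algebra k S]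
    [Finite σ] [Module.Finite k (T2 P B₀)]
    (ξ : Family R resR (defFunctor (Λ := k) (Spec (CommRingCat.of B₀)) (str k B₀))) (hξ : IsVersal ξ)
    (π : S →ₐ[k] R) (hπ : Function.Surjective π) (hJ : RingHom.ker π ≤ maximalIdeal S ^ 2) :
    ∃ s : Finset S, Ideal.span (s : Set S) = RingHom.ker π ∧ s.card ≤ Module.finrank k (T2 P B₀) := by
  classical
  let n := maximalIdeal S
  let J : Ideal S := RingHom.ker π
  have hJn : J ≤ n := hJ.trans (Ideal.pow_le_self two_ne_zero)
  obtain ⟨c, hc⟩ := Ideal.exists_pow_inf_eq_pow_smul n (J : Submodule S S)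
  have hAR : n ^ (c + 1) ⊓ J ≤ n * J := by
    have h1 := hc (c + 1) (Nat.le_succ c)
    rw [smul_eq_mul, Ideal.mul_top, Nat.add_sub_cancel_left, pow_one] at h1
    rw [h1]
    exact Ideal.mul_mono le_rfl inf_le_right
  let I1 : Ideal S := n * J ⊔ n ^ (c + 1)
  let I0 : Ideal S := J ⊔ n ^ (c + 1)
  have hpow : n ^ (c + 1) ≤ n := Ideal.pow_le_self (Nat.succ_ne_zero c)
  have hI1 : I1 ≤ n := sup_le Ideal.mul_le_left hpow
  have hI0 : I0 ≤ n := sup_le hJn hpow
  obtain ⟨A', π', hπ', hker', hres'⟩ := ArtFunLib.ObsBound.exists_obj (resR.comp π) I1 hI1 (c + 1) le_sup_right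
  obtain ⟨A, π0, hπ0, hker0, hres0⟩ := ArtFunLib.ObsBound.exists_obj (resR.comp π) I0 hI0 (c + 1) le_sup_right
  have hle : RingHom.ker π' ≤ RingHom.ker π0 := by
    rw [hker', hker0]; exact sup_le_sup_right Ideal.mul_le_right _
  let pa : A' →ₐ[k] A := AlgHom.liftOfSurjective π' hπ' π0 hle
  have hpa : ∀ b, pa (π' b) = π0 b := AlgHom.liftOfSurjective_apply π' hπ' π0 hle
  let q : A' ⟶ A := ⟨pa, AlgHom.ext fun x => by
    obtain ⟨b, rfl⟩ := hπ' x
    rw [AlgHom.comp_apply, hpa]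
    exact (congr($hres0 b)).trans (congr($hres' b)).symm⟩
  have hq : ∀ b, q (π' b) = π0 b := hpa
  have hmax : ∀ b, π' b ∈ maximalIdeal A' → b ∈ n := fun b hb =>
    (ArtFunLib.ObsHR.res_eq_zero_iff (resB := resR.comp π) b).1
      ((congr($hres' b)).symm.trans ((Art.mem_maximalIdeal_iff A' _).1 hb))
  have hkerq : ∀ b, π' b ∈ RingHom.ker q.toAlgHom ↔ b ∈ I0 := fun b => by
    rw [ArtFunLib.mem_ker_iff, hq, ← RingHom.mem_ker (f := π0), hker0]
  have hsemi : Art.IsSemismallExt q := by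
    refine ⟨fun y => ?_, eq_bot_iff.2 (Ideal.mul_le.2 fun a ha b hb => ?_)⟩
    · obtain ⟨b, rfl⟩ := hπ0 y; exact ⟨π' b, hq b⟩
    · obtain ⟨a, rfl⟩ := hπ' a
      obtain ⟨b, rfl⟩ := hπ' b
      rw [Ideal.mem_bot, ← map_mul, ← RingHom.mem_ker (f := π'), hker']
      obtain ⟨j, hj, w, hw, rfl⟩ := Submodule.mem_sup.1 ((hkerq b).1 hb)
      rw [mul_add]
      exact add_mem (Ideal.mem_sup_left (Ideal.mul_mem_mul (hmax a ha) hj))
        (Ideal.mem_sup_right (Ideal.mul_mem_left _ a hw))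
  have hle0 : RingHom.ker π ≤ RingHom.ker π0 := by rw [hker0]; exact le_sup_left
  let ua := AlgHom.liftOfSurjective π hπ π0 hle0
  have hua : ∀ b, ua (π b) = π0 b := AlgHom.liftOfSurjective_apply π hπ π0 hle0
  let φ : HomSet R resR A := ⟨ua, AlgHom.ext fun r => by
    obtain ⟨b, rfl⟩ := hπ r
    rw [AlgHom.comp_apply, hua]
    exact congr($hres0 b)⟩
  -- the kernel is the image of the relations
  have hKJ : ∀ y ∈ RingHom.ker q.toAlgHom, ∃ a ∈ J, π' a = y := fun y hy => by
    obtain ⟨b, rfl⟩ := hπ' y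
    obtain ⟨a, haJ, w, hw, rfl⟩ := Submodule.mem_sup.1 ((hkerq b).1 hy)
    refine ⟨a, haJ, ?_⟩
    rw [map_add, RingHom.mem_ker.1 (hker' ▸ (Ideal.mem_sup_right hw : w ∈ I1) : w ∈ RingHom.ker π'), add_zero]
  haveI : Module.Finite k ↥(RingHom.ker q.toAlgHom) := finite_ker hsemi
  have hdim := finrank_ker_le P ξ hξ hsemi φ fun K hK hKq ⟨v, hv⟩ => by
    let ψ : HomSet S (resR.comp π) (Art.quot A' K hK) := ⟨v.1.comp π, by rw [← AlgHom.comp_assoc, v.2]⟩
    let ψ0 : HomSet S (resR.comp π) (Art.quot A' K hK) :=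
      ⟨(Art.quotMk A' K hK).toAlgHom.comp π', by
        rw [← AlgHom.comp_assoc, (Art.quotMk A' K hK).res_comp, hres']⟩
    have hq' : Art.IsSemismallExt (Art.quotFactor hK q hKq) := by
      refine ⟨fun y => ?_, eq_bot_iff.2 (Ideal.mul_le.2 fun x hx y hy => ?_)⟩
      · obtain ⟨z, hz⟩ := hsemi.1 y; exact ⟨Art.quotMk A' K hK z, hz⟩
      · obtain ⟨x, rfl⟩ := Art.quotMk_surjective A' K hK x
        obtain ⟨y, rfl⟩ := Art.quotMk_surjective A' K hK y
        have hxy : x * y = 0 := by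
          rw [← Ideal.mem_bot, ← hsemi.2]
          refine Ideal.mul_mem_mul ?_ hy
          rw [Art.mem_maximalIdeal_iff] at hx ⊢
          exact hx
        rw [Ideal.mem_bot]
        show Art.quotMk A' K hK x * Art.quotMk A' K hK y = 0
        exact ((map_mul (Art.quotMk A' K hK).toAlgHom x y).symm.trans (congrArg _ hxy)).trans (map_zero _)
    have hψ : ∀ b, Art.quotFactor hK q hKq (ψ.1 b) = Art.quotFactor hK q hKq (ψ0.1 b) := fun b => by
      refine (congr($(congrArg Subtype.val hv) (π b))).trans ?_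
      show ua (π b) = q (π' b)
      rw [hua, hq]
    intro y hy
    obtain ⟨a, ha, rfl⟩ := hKJ y hy
    have h1 := ArtFunLib.ObsHR.lifts_eq_on_sq hq' ψ ψ0 hψ a (hJ ha)
    have h2 : ψ.1 a = 0 := (congrArg v.1 (RingHom.mem_ker.1 ha)).trans (map_zero _)
    exact Ideal.Quotient.eq_zero_iff_mem.1 (h1.symm.trans h2)
  let b := Module.finBasis k ↥(RingHom.ker q.toAlgHom)
  choose a haJ ha using fun i => hKJ _ (b i).2
  refine ⟨Finset.univ.image a, ?_, Finset.card_image_le.trans (by simpa using hdim)⟩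
  rw [Finset.coe_image, Finset.coe_univ, Set.image_univ]
  have hsJ : Ideal.span (Set.range a) ≤ J := Ideal.span_le.2 (by rintro _ ⟨j, rfl⟩; exact haJ j)
  refine le_antisymm hsJ ?_
  have hkey : J ≤ Ideal.span (Set.range a) ⊔ I1 := fun x hx => by
    have hxK : π' x ∈ RingHom.ker q.toAlgHom := (hkerq x).2 (Ideal.mem_sup_left hx)
    have h3 : π' x ∈ (Ideal.span (Set.range a)).map π'.toRingHom := by
      have h4 := congrArg Subtype.val (b.sum_repr ⟨_, hxK⟩)
      rw [← show _ = π' x from h4, Submodule.coe_sum]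
      refine Ideal.sum_mem _ fun i _ => ?_
      rw [SetLike.val_smul_of_tower, ← ha i, Algebra.smul_def]
      exact Ideal.mul_mem_left _ _ (Ideal.mem_map_of_mem _ (Ideal.subset_span ⟨i, rfl⟩))
    obtain ⟨y, hy, hyx⟩ := (Ideal.mem_map_iff_of_surjective π'.toRingHom hπ').1 h3
    have h4 : x - y ∈ I1 := by
      rw [← hker', RingHom.mem_ker, map_sub, sub_eq_zero]
      exact hyx.symm
    rw [← add_sub_cancel y x]
    exact Submodule.add_mem_sup hy h4
  refine Submodule.le_of_le_smul_of_le_jacobson_bot J.fg_of_isNoetherianRing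
    (IsLocalRing.maximalIdeal_le_jacobson _) fun x hx => ?_
  obtain ⟨y, hy, z, hz, rfl⟩ := Submodule.mem_sup.1 (hkey hx)
  obtain ⟨z1, hz1, w, hw, rfl⟩ := Submodule.mem_sup.1 hz
  have hwJ : w ∈ J := by
    have : w = (y + (z1 + w)) - y - z1 := by ring
    rw [this]
    exact sub_mem (sub_mem hx (hsJ hy)) (Ideal.mul_le_right hz1)
  exact Submodule.add_mem_sup hy (add_mem hz1 (hAR ⟨hw, hwJ⟩))

end Groth.Agent.AffDefLib

end
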