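import Groth.Agent.AffDefLib.Basic
import Groth.Agent.ArtFunLib.Basic
import Mathlib.RingTheory.Flat.Stability
import Mathlib.RingTheory.AdjoinRoot

/-! The deformations `xy = a` of the node; the functor is not pro-representable. -/

universe u

open CategoryTheory AlgebraicGeometry MvPolynomial

noncomputable section

namespace Groth.Agent.AffDefLib

open ArtFun

variable {k : Type u} [Field k]

section Alg

variable {A : Type u} [CommRing A]

/-- `xy - a` -/
abbrev nodeRel (a : A) : MvPolynomial (Fin 2) A := X 0 * X 1 - C a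

/-- `A[x, y]/(xy - a)` -/
abbrev NodeRing (a : A) : Type u := MvPolynomial (Fin 2) A ⧸ Ideal.span {nodeRel a}

/-- normal form of a monomial -/
def nodeNF (a : A) : MvPolynomial (Fin 2) A →ₗ[A] MvPolynomial (Fin 2) A :=
  (basisMonomials (Fin 2) A).constr A fun d =>
    C (a ^ min (d 0) (d 1)) * X 0 ^ (d 0 - min (d 0) (d 1)) * X 1 ^ (d 1 - min (d 0) (d 1))

theorem nodeNF_monomial (a : A) (d : Fin 2 →₀ ℕ) (c : A) :
    nodeNF a (monomial d c) =
      C c * (C (a ^ min (d 0) (d 1)) * X 0 ^ (d 0 - min (d 0) (d 1)) * X 1 ^ (d 1 - min (d 0) (d 1))) := by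
  have h : monomial d c = c • basisMonomials (Fin 2) A d := by
    rw [coe_basisMonomials, smul_monomial, smul_eq_mul, mul_one]
  rw [h, map_smul, nodeNF, Module.Basis.constr_basis, smul_eq_C_mul]

theorem nodeNF_mul_rel (a : A) (q : MvPolynomial (Fin 2) A) : nodeNF a (q * nodeRel a) = 0 := by
  induction q using MvPolynomial.induction_on' with
  | add p q hp hq => rw [add_mul, map_add, hp, hq, add_zero]
  | monomial d c =>
    have e1 : monomial d c * (X 0 * X 1) =
        monomial (d + (Finsupp.single 0 1 + Finsupp.single 1 1)) c := by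
      simp only [X, monomial_mul, mul_one]
    rw [mul_sub, map_sub, e1, mul_comm _ (C a), C_mul_monomial, nodeNF_monomial, nodeNF_monomial]
    have h0 : (d + (Finsupp.single 0 1 + Finsupp.single 1 1) : Fin 2 →₀ ℕ) 0 = d 0 + 1 := by simp
    have h1 : (d + (Finsupp.single 0 1 + Finsupp.single 1 1) : Fin 2 →₀ ℕ) 1 = d 1 + 1 := by simp
    rw [h0, h1, show min (d 0 + 1) (d 1 + 1) = min (d 0) (d 1) + 1 by omega,
      Nat.add_sub_add_right, Nat.add_sub_add_right, pow_succ]
    simp only [map_mul]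
    ring

theorem mk_nodeNF (a : A) (q : MvPolynomial (Fin 2) A) :
    Ideal.Quotient.mk (Ideal.span {nodeRel a}) (nodeNF a q) = Ideal.Quotient.mk _ q := by
  let mk := Ideal.Quotient.mk (Ideal.span {nodeRel a})
  induction q using MvPolynomial.induction_on' with
  | add p q hp hq => rw [map_add, map_add, hp, hq, map_add]
  | monomial d c =>
    rw [nodeNF_monomial]
    have hd : monomial d c = C c * (X 0 ^ d 0 * X 1 ^ d 1) := by
      rw [monomial_eq, Finsupp.prod_fintype _ _ fun _ => pow_zero _, Fin.prod_univ_two]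
    have hrel : mk (C a) = mk (X 0 * X 1) :=
      (Ideal.Quotient.eq.2 (Ideal.mem_span_singleton_self (nodeRel a))).symm
    set m := min (d 0) (d 1) with hm
    set i := d 0 - m with hi
    set j := d 1 - m with hj
    have e0 : d 0 = m + i := by omega
    have e1 : d 1 = m + j := by omega
    clear_value m i j
    change mk _ = mk _
    rw [hd, e0, e1]
    simp only [map_mul, map_pow, hrel, pow_add]
    ring

theorem nodeRing_flat (a : A) : Module.Flat A (NodeRing a) := by
  let s : NodeRing a →ₗ[A] MvPolynomial (Fin 2) A :=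
    { toFun := Quotient.lift (nodeNF a) fun x y h => by
        obtain ⟨q, hq⟩ := Ideal.mem_span_singleton'.1 ((Submodule.quotientRel_def _).1 h)
        rw [← sub_eq_zero, ← map_sub, ← hq, nodeNF_mul_rel]
      map_add' := fun x y => by
        obtain ⟨x, rfl⟩ := Ideal.Quotient.mk_surjective x
        obtain ⟨y, rfl⟩ := Ideal.Quotient.mk_surjective y
        exact map_add (nodeNF a) x y
      map_smul' := fun c x => by
        obtain ⟨x, rfl⟩ := Ideal.Quotient.mk_surjective x
        exact map_smul (nodeNF a) c x }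
  refine Module.Flat.of_retract s (Ideal.Quotient.mkₐ A _).toLinearMap (LinearMap.ext fun x => ?_)
  obtain ⟨x, rfl⟩ := Ideal.Quotient.mk_surjective x
  exact mk_nodeNF a x

theorem ker_map_node {B : Type u} [CommRing B] (g : A →+* B) (hg : Function.Surjective g) (a : A)
    (b : B) (hab : g a = b) (x : MvPolynomial (Fin 2) A) (hx : map g x ∈ Ideal.span {nodeRel b}) :
    x ∈ Ideal.span {nodeRel a} ⊔ (RingHom.ker g).map C := by
  obtain ⟨q, hq⟩ := Ideal.mem_span_singleton'.1 hx
  obtain ⟨q', rfl⟩ := map_surjective g hg q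
  have : x - q' * nodeRel a ∈ RingHom.ker (map g : MvPolynomial (Fin 2) A →+* MvPolynomial (Fin 2) B) := by
    rw [RingHom.mem_ker, map_sub, map_mul, ← hq, map_sub, map_mul, map_X, map_X, map_C, hab, sub_self]
  rw [ker_map] at this
  rw [← add_sub_cancel (q' * nodeRel a) x]
  exact Submodule.add_mem_sup (Ideal.mul_mem_left _ _ (Ideal.mem_span_singleton_self _)) this

end Alg

/-- The node `k[x, y]/(xy)`. -/
abbrev Node0 (k : Type u) [Field k] : Type u :=
  MvPolynomial (Fin 2) k ⧸ Ideal.span {(X 0 * X 1 : MvPolynomial (Fin 2) k)}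

variable {A B : Art k k}

/-- reduction -/
def nodeRed (a : A) (ha : A.res a = 0) : NodeRing a →+* Node0 k :=
  Ideal.Quotient.lift _ ((Ideal.Quotient.mk _).comp (map A.res.toRingHom)) fun x hx => by
    obtain ⟨q, rfl⟩ := Ideal.mem_span_singleton'.1 hx
    rw [RingHom.comp_apply, Ideal.Quotient.eq_zero_iff_mem]
    simp only [map_mul, map_sub, map_X, map_C, show A.res.toRingHom a = 0 from ha, map_zero, sub_zero]
    exact Ideal.mul_mem_left _ _ (Ideal.mem_span_singleton_self _)

theorem nodeRed_mk (a : A) (ha : A.res a = 0) (x : MvPolynomial (Fin 2) A) :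
    nodeRed a ha (Ideal.Quotient.mk _ x) = Ideal.Quotient.mk _ (map A.res.toRingHom x) := rfl

/-- the deformation `xy = a` -/
def nodeDef (a : A) (ha : A.res a = 0) : AlgDef k (Node0 k) A where
  carrier := NodeRing a
  flat := nodeRing_flat a
  q := nodeRed a ha
  q_surjective := fun z => by
    obtain ⟨z, rfl⟩ := Ideal.Quotient.mk_surjective z
    obtain ⟨x, rfl⟩ := map_surjective A.res.toRingHom A.res_surjective z
    exact ⟨Ideal.Quotient.mk _ x, rfl⟩
  q_algebraMap := fun c => by
    change nodeRed a ha (Ideal.Quotient.mk _ (C c)) = _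
    rw [nodeRed_mk, map_C]
    rfl
  ker_q := by
    refine le_antisymm (fun z hz => ?_) (Ideal.map_le_iff_le_comap.2 fun c hc => ?_)
    · obtain ⟨x, rfl⟩ := Ideal.Quotient.mk_surjective z
      rw [RingHom.mem_ker, nodeRed_mk, Ideal.Quotient.eq_zero_iff_mem,
        show (X 0 * X 1 : MvPolynomial (Fin 2) k) = nodeRel (0 : k) by rw [nodeRel, map_zero, sub_zero]] at hz
      obtain ⟨y, hy, w, hw, rfl⟩ := Submodule.mem_sup.1
        (ker_map_node A.res.toRingHom A.res_surjective a 0 ha x hz)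
      rw [map_add, Ideal.Quotient.eq_zero_iff_mem.2 hy, zero_add, ← AlgDef.ker_res]
      exact Ideal.map_map (MvPolynomial.C (σ := Fin 2)) (Ideal.Quotient.mk (Ideal.span {nodeRel a})) ▸
        Ideal.mem_map_of_mem _ hw
    · change nodeRed a ha (Ideal.Quotient.mk _ (C c)) = 0
      rw [nodeRed_mk, map_C, show A.res.toRingHom c = 0 from (Art.mem_maximalIdeal_iff A c).1 hc,
        map_zero, map_zero]

theorem exists_isBC_node (g : A ⟶ B) (hg : Function.Surjective g) (a : A) (ha : A.res a = 0) :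
    ∃ f, AlgDef.IsBC g (nodeDef a ha) (nodeDef (g a) ((Art.res_app g a).trans ha)) f := by
  let f : NodeRing a →+* NodeRing (g a) :=
    Ideal.Quotient.lift _ ((Ideal.Quotient.mk _).comp (map g.toAlgHom.toRingHom)) fun x hx => by
      obtain ⟨q, rfl⟩ := Ideal.mem_span_singleton'.1 hx
      rw [RingHom.comp_apply, Ideal.Quotient.eq_zero_iff_mem]
      simp only [map_mul, map_sub, map_X, map_C]
      exact Ideal.mul_mem_left _ _ (Ideal.mem_span_singleton_self _)
  refine ⟨f, fun z => ?_, ?_, fun c => ?_, fun z => ?_⟩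
  · obtain ⟨z, rfl⟩ := Ideal.Quotient.mk_surjective z
    obtain ⟨x, rfl⟩ := map_surjective g.toAlgHom.toRingHom hg z
    exact ⟨Ideal.Quotient.mk _ x, rfl⟩
  · refine le_antisymm (fun z hz => ?_) (Ideal.map_le_iff_le_comap.2 fun c hc => ?_)
    · obtain ⟨x, rfl⟩ := Ideal.Quotient.mk_surjective z
      obtain ⟨y, hy, w, hw, rfl⟩ := Submodule.mem_sup.1
        (ker_map_node g.toAlgHom.toRingHom hg a (g a) rfl x (Ideal.Quotient.eq_zero_iff_mem.1 hz))
      rw [map_add, Ideal.Quotient.eq_zero_iff_mem.2 hy, zero_add]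
      exact Ideal.map_map (MvPolynomial.C (σ := Fin 2)) (Ideal.Quotient.mk (Ideal.span {nodeRel a})) ▸
        Ideal.mem_map_of_mem _ hw
    · change Ideal.Quotient.mk _ (map g.toAlgHom.toRingHom (C c)) = 0
      rw [map_C, show g.toAlgHom.toRingHom c = 0 from hc, map_zero, map_zero]
  · exact congrArg (Ideal.Quotient.mk _) (map_C _ c)
  · obtain ⟨z, rfl⟩ := Ideal.Quotient.mk_surjective z
    change Ideal.Quotient.mk _ (map B.res.toRingHom (map g.toAlgHom.toRingHom z)) = _
    rw [map_map, show B.res.toRingHom.comp g.toAlgHom.toRingHom = A.res.toRingHom from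
      RingHom.ext fun c => Art.res_app g c]
    rfl

/-- The class of `xy = a` in the deformation functor. -/
def nodeCl (a : A) (ha : A.res a = 0) :
    (defFunctor (Λ := k) (Spec (CommRingCat.of (Node0 k))) (str k (Node0 k))).obj A :=
  (nodeDef a ha).toDefSch.cl

theorem nodeCl_congr {a a' : A} (e : a = a') (ha : A.res a = 0) :
    nodeCl a ha = nodeCl a' (e ▸ ha) := by
  subst e; rfl

theorem map_nodeCl (g : A ⟶ B) (hg : Function.Surjective g) (a : A) (ha : A.res a = 0) :
    (defFunctor (Λ := k) (Spec (CommRingCat.of (Node0 k))) (str k (Node0 k))).map g (nodeCl a ha) =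
      nodeCl (g a) ((Art.res_app g a).trans ha) := by
  obtain ⟨f, hf⟩ := exists_isBC_node g hg a ha
  exact Quotient.sound ⟨hf.iso hg⟩

theorem nodeCl_eq_of_unit_mul (v : A) (hv : A.res v = 1) (a a' : A) (h : a' = v * a) (ha : A.res a = 0)
    (ha' : A.res a' = 0) : nodeCl a ha = nodeCl a' ha' := by
  obtain ⟨w, hw⟩ := IsUnit.exists_right_inv (show IsUnit v from
    (ArtFunLib.isUnit_iff_res_ne_zero A v).2 (by rw [hv]; exact one_ne_zero))
  have hrw : A.res w = 1 := by
    have := congrArg A.res hw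
    rwa [map_mul, hv, one_mul, map_one] at this
  let mk := Ideal.Quotient.mk (Ideal.span {nodeRel a})
  let mk' := Ideal.Quotient.mk (Ideal.span {nodeRel a'})
  have hr : mk (X 0) * mk (X 1) = mk (C a) := by
    rw [← map_mul]
    exact Ideal.Quotient.eq.2 (Ideal.mem_span_singleton_self _)
  have hr' : mk' (X 0) * mk' (X 1) = mk' (C a') := by
    rw [← map_mul]
    exact Ideal.Quotient.eq.2 (Ideal.mem_span_singleton_self _)
  let φ : MvPolynomial (Fin 2) A →ₐ[A] NodeRing a' :=
    aeval ![algebraMap A _ w * mk' (X 0), mk' (X 1)]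
  let ψ : MvPolynomial (Fin 2) A →ₐ[A] NodeRing a :=
    aeval ![algebraMap A _ v * mk (X 0), mk (X 1)]
  let φ' : NodeRing a →ₐ[A] NodeRing a' := Ideal.Quotient.liftₐ _ φ fun x hx => by
    obtain ⟨q, rfl⟩ := Ideal.mem_span_singleton'.1 hx
    rw [map_mul, map_sub, map_mul, aeval_X, aeval_X, aeval_C]
    simp only [Matrix.cons_val_zero, Matrix.cons_val_one]
    rw [mul_assoc, hr', show mk' (C a') = algebraMap A (NodeRing a') a' from rfl, ← map_mul,
      show w * a' = a from (congrArg (w * ·) h).trans (by rw [← mul_assoc, mul_comm w v, hw, one_mul]),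
      sub_self, mul_zero]
  let ψ' : NodeRing a' →ₐ[A] NodeRing a := Ideal.Quotient.liftₐ _ ψ fun x hx => by
    obtain ⟨q, rfl⟩ := Ideal.mem_span_singleton'.1 hx
    rw [map_mul, map_sub, map_mul, aeval_X, aeval_X, aeval_C]
    simp only [Matrix.cons_val_zero, Matrix.cons_val_one]
    rw [mul_assoc, hr, show mk (C a) = algebraMap A (NodeRing a) a from rfl, ← map_mul, ← h,
      sub_self, mul_zero]
  have hφ : ∀ x, φ' (mk x) = φ x := fun _ => rfl
  have hψ : ∀ x, ψ' (mk' x) = ψ x := fun _ => rfl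
  have hφi : ∀ i, φ (X i) = ![algebraMap A _ w * mk' (X 0), mk' (X 1)] i := aeval_X _
  have hψi : ∀ i, ψ (X i) = ![algebraMap A _ v * mk (X 0), mk (X 1)] i := aeval_X _
  let e : NodeRing a ≃ₐ[A] NodeRing a' := AlgEquiv.ofAlgHom φ' ψ'
    (Ideal.Quotient.algHom_ext _ (MvPolynomial.algHom_ext fun i => by
      change φ' (ψ' (mk' (X i))) = mk' (X i)
      rw [hψ, hψi]
      fin_cases i
      · change φ' (algebraMap A _ v * mk (X 0)) = mk' (X 0)
        rw [map_mul, AlgHom.commutes, hφ, hφi]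
        change algebraMap A _ v * (algebraMap A _ w * mk' (X 0)) = mk' (X 0)
        rw [← mul_assoc, ← map_mul, hw, map_one, one_mul]
      · change φ' (mk (X 1)) = mk' (X 1)
        rw [hφ, hφi]
        rfl))
    (Ideal.Quotient.algHom_ext _ (MvPolynomial.algHom_ext fun i => by
      change ψ' (φ' (mk (X i))) = mk (X i)
      rw [hφ, hφi]
      fin_cases i
      · change ψ' (algebraMap A _ w * mk' (X 0)) = mk (X 0)
        rw [map_mul, AlgHom.commutes, hψ, hψi]
        change algebraMap A _ w * (algebraMap A _ v * mk (X 0)) = mk (X 0)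
        rw [← mul_assoc, ← map_mul, mul_comm w v, hw, map_one, one_mul]
      · change ψ' (mk' (X 1)) = mk (X 1)
        rw [hψ, hψi]
        rfl))
  refine Quotient.sound ⟨AlgDef.toIso (D := nodeDef a ha) (D' := nodeDef a' ha') e.toRingEquiv ⟨fun c => e.commutes c, ?_⟩⟩
  have hq : (nodeRed a' ha').comp φ'.toRingHom = nodeRed a ha := by
    refine Ideal.Quotient.ringHom_ext (MvPolynomial.ringHom_ext (fun c => ?_) (fun i => ?_))
    · change nodeRed a' ha' (φ' (mk (C c))) = nodeRed a ha (mk (C c))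
      rw [show φ' (mk (C c)) = mk' (C c) from φ'.commutes c, nodeRed_mk, nodeRed_mk, map_C]
    · change nodeRed a' ha' (φ' (mk (X i))) = nodeRed a ha (mk (X i))
      rw [hφ, hφi]
      fin_cases i
      · change nodeRed a' ha' (mk' (C w) * mk' (X 0)) = _
        rw [← map_mul, nodeRed_mk, map_mul (map A.res.toRingHom), map_C, map_X,
          show A.res.toRingHom w = 1 from hrw, map_one, one_mul]
        exact congrArg (Ideal.Quotient.mk _) (map_X _ _).symm
      · change nodeRed a' ha' (mk' (X 1)) = _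
        rw [nodeRed_mk, map_X]
        exact congrArg (Ideal.Quotient.mk _) (map_X _ _).symm
  exact fun z => RingHom.congr_fun hq z

theorem nodeCl_eps_ne_zero :
    nodeCl (A := Art.dual k k) (DualNumber.eps : DualNumber k) rfl ≠ nodeCl (A := Art.dual k k) 0 (map_zero _) := by
  intro h
  obtain ⟨e, he, hq⟩ := AlgDef.nonempty_iso_iff.1 (Quotient.exact h)
  let D := Art.dual k k
  let ε : D := (DualNumber.eps : DualNumber k)
  let S := NodeRing (0 : D)
  -- evaluation at the origin
  let ev : MvPolynomial (Fin 2) D →ₐ[D] D := aeval fun _ => (0 : D)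
  let ev' : NodeRing (0 : D) →ₐ[D] D := Ideal.Quotient.liftₐ _ ev fun x hx => by
    obtain ⟨q, rfl⟩ := Ideal.mem_span_singleton'.1 hx
    rw [map_mul, map_sub, map_mul, aeval_X, aeval_C, map_zero, zero_mul, sub_self, mul_zero]
  have hev : ∀ z : NodeRing (0 : D), D.res (ev' z) =
      Ideal.Quotient.lift _ (constantCoeff (R := k) (σ := Fin 2)) (fun x hx => by
        obtain ⟨q, rfl⟩ := Ideal.mem_span_singleton'.1 hx
        simp) (nodeRed (0 : D) (map_zero _) z) := by
    intro z
    obtain ⟨x, rfl⟩ := Ideal.Quotient.mk_surjective z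
    rw [nodeRed_mk, Ideal.Quotient.lift_mk, constantCoeff_map]
    change D.res (ev x) = D.res (constantCoeff x)
    congr 1
    exact RingHom.congr_fun (show ev.toRingHom = constantCoeff from
      MvPolynomial.ringHom_ext (fun c => by simp [ev]) (fun i => by simp [ev])) x
  let e' : NodeRing ε ≃+* NodeRing (0 : D) := e
  let g : NodeRing ε → D := fun z => ev' (e' z)
  have hgc : ∀ c : D, g (Ideal.Quotient.mk _ (C c)) = c := fun c => by
    change ev' (e' (Ideal.Quotient.mk _ (C c))) = c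
    exact (congrArg ev' (he c)).trans (ev'.commutes c)
  have hg0 : ∀ i : Fin 2, D.res (g (Ideal.Quotient.mk _ (X i))) = 0 := fun i => by
    change D.res (ev' (e' _)) = 0
    rw [hev]
    have := hq (Ideal.Quotient.mk _ (X i))
    change nodeRed (0 : D) (map_zero _) (e' _) = nodeRed ε rfl _ at this
    rw [this]
    change constantCoeff (MvPolynomial.map D.res.toRingHom (X i)) = 0
    rw [map_X, constantCoeff_X]
  have hprod : g (Ideal.Quotient.mk _ (X 0)) * g (Ideal.Quotient.mk _ (X 1)) = ε := by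
    change ev' (e' _) * ev' (e' _) = ε
    rw [← map_mul, ← map_mul, ← map_mul]
    refine Eq.trans ?_ (hgc ε)
    exact congrArg (fun z => ev' (e' z)) (Ideal.Quotient.eq.2 (Ideal.mem_span_singleton_self (nodeRel ε)))
  have key : ∀ u v : DualNumber k, TrivSqZeroExt.fst u = 0 → TrivSqZeroExt.fst v = 0 → u * v = 0 :=
    fun u v hu hv => TrivSqZeroExt.ext (by simp [hu]) (by simp [hu, hv])
  have h0 : (ε : DualNumber k) = 0 := hprod.symm.trans (key _ _ (hg0 0) (hg0 1))
  exact one_ne_zero (α := k) (congrArg TrivSqZeroExt.snd h0)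

section A3

variable (k)

/-- `k[t]/(t³)` -/
abbrev R3 : Type u := Polynomial k ⧸ Ideal.span {(Polynomial.X : Polynomial k) ^ 3}

/-- evaluation at zero -/
def res3 : R3 k →ₐ[k] k := Ideal.Quotient.liftₐ _ (Polynomial.aeval (0 : k)) fun x hx => by
  obtain ⟨q, rfl⟩ := Ideal.mem_span_singleton'.1 hx
  simp

theorem isNilpotent_of_res3 (x : R3 k) (hx : res3 k x = 0) : IsNilpotent x := by
  obtain ⟨p, rfl⟩ := Ideal.Quotient.mk_surjective x
  refine ⟨3, ?_⟩
  rw [← map_pow, Ideal.Quotient.eq_zero_iff_mem, Ideal.mem_span_singleton]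
  refine pow_dvd_pow_of_dvd ?_ 3
  rw [Polynomial.X_dvd_iff, Polynomial.coeff_zero_eq_eval_zero]
  have h : Polynomial.aeval (0 : k) p = 0 := hx
  rwa [Polynomial.coe_aeval_eq_eval] at h

/-- `k[t]/(t³)` as an object -/
def art3 : Art k k :=
  haveI : Nontrivial (R3 k) := ⟨0, 1, fun e => zero_ne_one (α := k) (by
    have := congrArg (res3 k) e; simpa using this)⟩
  haveI : Module.Finite k (R3 k) := (Polynomial.monic_X_pow 3).finite_adjoinRoot
  { carrier := R3 k
    isLocalRing := IsLocalRing.of_isUnit_or_isUnit_one_sub_self fun x => by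
      by_cases hx : res3 k x = 0
      · exact Or.inr (isNilpotent_of_res3 k x hx).isUnit_one_sub
      · refine Or.inl ?_
        have hn : IsNilpotent (x - algebraMap k _ (res3 k x)) :=
          isNilpotent_of_res3 k _ (by rw [map_sub, AlgHom.commutes]; exact sub_self _)
        rw [← add_sub_cancel (algebraMap k _ (res3 k x)) x]
        exact hn.isUnit_add_left_of_commute ((isUnit_iff_ne_zero.2 hx).map _) (Commute.all _ _)
    isArtinianRing := IsArtinianRing.of_finite k _
    res := res3 k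
    res_surjective := fun c => ⟨algebraMap k _ c, AlgHom.commutes _ c⟩ }

/-- `t` -/
def tt : R3 k := Ideal.Quotient.mk (Ideal.span {(Polynomial.X : Polynomial k) ^ 3}) Polynomial.X

theorem res3_tt : res3 k (tt k) = 0 := Polynomial.aeval_X _

/-- `t ↦ ε` -/
def pi3A : R3 k →ₐ[k] DualNumber k :=
  Ideal.Quotient.liftₐ _ (Polynomial.aeval (DualNumber.eps : DualNumber k)) fun x hx => by
    obtain ⟨q, rfl⟩ := Ideal.mem_span_singleton'.1 hx
    rw [map_mul, map_pow, Polynomial.aeval_X, pow_succ, DualNumber.eps_pow_two, zero_mul, mul_zero]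

theorem pi3A_mk (p : Polynomial k) :
    pi3A k (Ideal.Quotient.mk _ p) = Polynomial.aeval (DualNumber.eps : DualNumber k) p := rfl

theorem pi3A_tt : pi3A k (tt k) = DualNumber.eps := Polynomial.aeval_X _

theorem fst_pi3A (x : R3 k) : TrivSqZeroExt.fst (pi3A k x) = res3 k x := by
  have h : (TrivSqZeroExt.fstHom k k k).comp (pi3A k) = res3 k :=
    Ideal.Quotient.algHom_ext _ (Polynomial.algHom_ext (by
      change TrivSqZeroExt.fst (pi3A k (tt k)) = res3 k (tt k)
      rw [pi3A_tt, res3_tt]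
      rfl))
  exact AlgHom.congr_fun h x

/-- `t ↦ ε` as a morphism -/
def pi3 : art3 k ⟶ Art.dual k k := Art.homMk (pi3A k) (AlgHom.ext (fst_pi3A k))

/-- the coefficient of `t²` -/
def coef2 : R3 k →ₗ[k] k where
  toFun := Quotient.lift (fun p => Polynomial.coeff p 2) fun p q h => by
    obtain ⟨r, hr⟩ := Ideal.mem_span_singleton'.1 ((Submodule.quotientRel_def _).1 h)
    rw [← sub_eq_zero, ← Polynomial.coeff_sub, ← hr, Polynomial.coeff_mul_X_pow']
    simp
  map_add' x y := by
    obtain ⟨x, rfl⟩ := Ideal.Quotient.mk_surjective x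
    obtain ⟨y, rfl⟩ := Ideal.Quotient.mk_surjective y
    exact Polynomial.coeff_add x y 2
  map_smul' c x := by
    obtain ⟨x, rfl⟩ := Ideal.Quotient.mk_surjective x
    exact Polynomial.coeff_smul c x 2

theorem coef2_mk (p : Polynomial k) : coef2 k (Ideal.Quotient.mk _ p) = p.coeff 2 := rfl

theorem coef2_smul_sq (c : k) : coef2 k (c • tt k ^ 2) = c := by
  rw [map_smul, tt, ← map_pow, coef2_mk, Polynomial.coeff_X_pow]
  simp

theorem mk_smul_sq (c : k) :
    c • tt k ^ 2 = Ideal.Quotient.mk _ (Polynomial.C c * Polynomial.X ^ 2) := by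
  rw [tt, ← map_pow, ← Polynomial.smul_eq_C_mul]
  rfl

theorem eq_smul_sq_of_pi3 (d : R3 k) (hd : pi3A k d = 0) : d = coef2 k d • tt k ^ 2 := by
  obtain ⟨p, rfl⟩ := Ideal.Quotient.mk_surjective d
  have h : Polynomial.aeval (DualNumber.eps : DualNumber k) p = 0 := hd
  rw [coef2_mk, mk_smul_sq]
  obtain ⟨r, hr⟩ : (Polynomial.X : Polynomial k) ^ 3 ∣
      p - (Polynomial.C (p.coeff 0) + Polynomial.C (p.coeff 1) * Polynomial.X + Polynomial.C (p.coeff 2) * Polynomial.X ^ 2) := by
    rw [Polynomial.X_pow_dvd_iff]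
    intro d hd
    interval_cases d <;> simp [Polynomial.coeff_X, Polynomial.coeff_C, Polynomial.coeff_X_pow]
  have hp : p = (Polynomial.C (p.coeff 0) + Polynomial.C (p.coeff 1) * Polynomial.X + Polynomial.C (p.coeff 2) * Polynomial.X ^ 2) + Polynomial.X ^ 3 * r := by
    rw [← hr]; ring
  have h' := h
  rw [hp] at h'
  have hε : ((DualNumber.eps : DualNumber k)) ^ 3 = 0 := by rw [pow_succ, DualNumber.eps_pow_two, zero_mul]
  simp only [map_add, map_mul, map_pow, Polynomial.aeval_X, Polynomial.aeval_C, DualNumber.eps_pow_two,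
    hε, mul_zero, zero_mul, add_zero] at h'
  have h0 : p.coeff 0 = 0 := by
    have := congrArg TrivSqZeroExt.fst h'
    simpa [TrivSqZeroExt.algebraMap_eq_inl] using this
  have h1 : p.coeff 1 = 0 := by
    have := congrArg TrivSqZeroExt.snd h'
    simpa [TrivSqZeroExt.algebraMap_eq_inl] using this
  rw [Ideal.Quotient.eq, Ideal.mem_span_singleton]
  refine ⟨r, ?_⟩
  conv_lhs => lhs; rw [hp]
  rw [h0, h1, map_zero]
  ring

theorem mul_smul_sq (u : R3 k) (c : k) : u * (c • tt k ^ 2) = (res3 k u * c) • tt k ^ 2 := by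
  obtain ⟨p, rfl⟩ := Ideal.Quotient.mk_surjective u
  rw [show res3 k (Ideal.Quotient.mk _ p) = p.coeff 0 by
    change Polynomial.aeval (0 : k) p = p.coeff 0
    rw [Polynomial.coe_aeval_eq_eval, ← Polynomial.coeff_zero_eq_eval_zero],
    mk_smul_sq, mk_smul_sq, ← map_mul, Ideal.Quotient.eq, Ideal.mem_span_singleton]
  obtain ⟨q, hq⟩ := Polynomial.X_dvd_iff.2 (show (p - Polynomial.C (p.coeff 0)).coeff 0 = 0 by simp)
  refine ⟨q * Polynomial.C c, ?_⟩
  rw [map_mul]
  linear_combination (Polynomial.C c * Polynomial.X ^ 2) * hq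

theorem coef2_diff (x₁ x₂ y₁ y₂ : R3 k) (hx : pi3A k x₁ = pi3A k x₂) (hy : pi3A k y₁ = pi3A k y₂) :
    coef2 k (x₂ * y₂ - x₁ * y₁) = res3 k x₁ * coef2 k (y₂ - y₁) + res3 k y₁ * coef2 k (x₂ - x₁) := by
  have ex := eq_smul_sq_of_pi3 k (x₂ - x₁) (by rw [map_sub, hx, sub_self])
  have ey := eq_smul_sq_of_pi3 k (y₂ - y₁) (by rw [map_sub, hy, sub_self])
  have hres : res3 k x₂ = res3 k x₁ := by rw [← fst_pi3A, ← fst_pi3A, hx]
  rw [show x₂ * y₂ - x₁ * y₁ = x₂ * (y₂ - y₁) + y₁ * (x₂ - x₁) by ring]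
  conv_lhs => rw [ex, ey, mul_smul_sq, mul_smul_sq, map_add, coef2_smul_sq, coef2_smul_sq, hres]

/-- the underlying map of `theta` -/
def thetaFun (x y : R3 k) : DualNumber k :=
  TrivSqZeroExt.inl (res3 k x) + TrivSqZeroExt.inr (coef2 k (y - x))

theorem thetaFun_algebraMap (c : k) :
    thetaFun k (algebraMap k _ c) (algebraMap k _ c) = algebraMap k (DualNumber k) c := by
  rw [thetaFun, AlgHom.commutes, sub_self, map_zero, TrivSqZeroExt.inr_zero, add_zero]
  rfl

theorem thetaFun_add (x y x' y' : R3 k) :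
    thetaFun k (x + x') (y + y') = thetaFun k x y + thetaFun k x' y' := by
  simp only [thetaFun, add_sub_add_comm, map_add, TrivSqZeroExt.inl_add, TrivSqZeroExt.inr_add]
  abel

theorem thetaFun_mul (x y x' y' : R3 k) (h : pi3A k x = pi3A k y) (h' : pi3A k x' = pi3A k y') :
    thetaFun k (x * x') (y * y') = thetaFun k x y * thetaFun k x' y' := by
  rw [thetaFun, coef2_diff k x y x' y' h h', map_mul]
  refine TrivSqZeroExt.ext ?_ ?_
  · simp [thetaFun]
  · simp [thetaFun]
    ring

/-- the map to the dual numbers -/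
def theta : ArtFunLib.fibSub (pi3 k) (pi3 k) →ₐ[k] DualNumber k where
  toFun x := thetaFun k x.1.1 x.1.2
  map_one' := by
    have h := thetaFun_algebraMap k 1
    rw [map_one (algebraMap k (DualNumber k)), map_one (algebraMap k (R3 k))] at h
    exact h
  map_zero' := by
    have h := thetaFun_algebraMap k 0
    rw [map_zero (algebraMap k (DualNumber k)), map_zero (algebraMap k (R3 k))] at h
    exact h
  map_add' x y := thetaFun_add k x.1.1 x.1.2 y.1.1 y.1.2
  map_mul' x y := thetaFun_mul k x.1.1 x.1.2 y.1.1 y.1.2 x.2 y.2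
  commutes' c := thetaFun_algebraMap k c

theorem fst_thetaFun (x y : R3 k) : TrivSqZeroExt.fst (thetaFun k x y) = res3 k x := by simp [thetaFun]

theorem exists_fib_sec (c : k) : ∃ x : ArtFunLib.fibSub (pi3 k) (pi3 k), (art3 k).res x.1.1 = c :=
  ⟨⟨(algebraMap k (art3 k) c, algebraMap k (art3 k) c), rfl⟩, AlgHom.commutes _ c⟩

/-- the fibre product -/
def PP : Art k k := ArtFunLib.fib (pi3 k) (pi3 k) (exists_fib_sec k)

/-- the map to the dual numbers as a morphism -/
def thetaHom : PP k ⟶ Art.dual k k := Art.homMk (theta k) (AlgHom.ext fun x => fst_thetaFun k x.1.1 x.1.2)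

/-- `(t, t + t²)` -/
def zel : PP k :=
  (⟨(tt k, tt k + tt k * tt k), (pi3A_tt k).trans (by
    change _ = pi3A k (tt k + tt k * tt k)
    rw [map_add, map_mul, pi3A_tt, DualNumber.eps_mul_eps, add_zero])⟩ :
    ArtFunLib.fibSub (pi3 k) (pi3 k))

/-- `(t, t)` -/
def zel' : PP k := (⟨(tt k, tt k), rfl⟩ : ArtFunLib.fibSub (pi3 k) (pi3 k))

theorem thetaHom_zel : thetaHom k (zel k) = (DualNumber.eps : DualNumber k) := by
  change thetaFun k (tt k) (tt k + tt k * tt k) = _
  rw [thetaFun, res3_tt, add_sub_cancel_left, ← pow_two, ← one_smul k (tt k ^ 2), coef2_smul_sq,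
    TrivSqZeroExt.inl_zero, zero_add]
  rfl

theorem thetaHom_zel' : thetaHom k (zel' k) = (0 : DualNumber k) := by
  change thetaFun k (tt k) (tt k) = _
  rw [thetaFun, res3_tt, sub_self, map_zero, TrivSqZeroExt.inl_zero, TrivSqZeroExt.inr_zero, add_zero]

theorem thetaHom_surjective : Function.Surjective (thetaHom k) := fun d => by
  let d' : DualNumber k := d
  refine ⟨algebraMap k (PP k) d'.1 + d'.2 • zel k, ?_⟩
  change (thetaHom k).toAlgHom _ = _
  rw [map_add, map_smul, AlgHom.commutes, thetaHom_zel]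
  exact TrivSqZeroExt.ext
    (show d'.1 + d'.2 • (0 : k) = d'.1 by rw [smul_zero, add_zero])
    (show (0 : k) + d'.2 • (1 : k) = d'.2 by rw [smul_eq_mul, mul_one, zero_add])

end A3

/-- the functor is not pro-representable -/
theorem not_isProrepresentable :
    ¬ IsProrepresentable (defFunctor (Λ := k) (Spec (CommRingCat.of (Node0 k))) (str k (Node0 k))) := by
  rintro ⟨⟨R, ξ, hξ⟩⟩
  let p₁ : PP k ⟶ art3 k := ArtFunLib.fibFst (pi3 k) (pi3 k) (exists_fib_sec k)
  let p₂ : PP k ⟶ art3 k := ArtFunLib.fibSnd (pi3 k) (pi3 k) (exists_fib_sec k)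
  have hp₁ : Function.Surjective p₁ := fun a => ⟨⟨(a, a), rfl⟩, rfl⟩
  have hp₂ : Function.Surjective p₂ := fun a => ⟨⟨(a, a), rfl⟩, rfl⟩
  have hrt : (art3 k).res (tt k) = 0 := res3_tt k
  have hz : (PP k).res (zel k) = 0 := res3_tt k
  have hz' : (PP k).res (zel' k) = 0 := res3_tt k
  let F := defFunctor (Λ := k) (Spec (CommRingCat.of (Node0 k))) (str k (Node0 k))
  have e₁ : F.map p₁ (nodeCl (zel k) hz) = F.map p₁ (nodeCl (zel' k) hz') := by
    rw [map_nodeCl p₁ hp₁, map_nodeCl p₁ hp₁]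
    rfl
  have e₂ : F.map p₂ (nodeCl (zel k) hz) = F.map p₂ (nodeCl (zel' k) hz') := by
    rw [map_nodeCl p₂ hp₂, map_nodeCl p₂ hp₂]
    let t : art3 k := tt k
    have hr : (art3 k).res (t + t * t) = 0 := by rw [map_add, map_mul, hrt, mul_zero, add_zero]
    exact (nodeCl_eq_of_unit_mul (A := art3 k) (1 + t) (by rw [map_add, map_one, hrt, add_zero]) t (t + t * t)
      (by ring) hrt hr).symm
  obtain ⟨φ, hφ⟩ := (hξ (PP k)).2 (nodeCl (zel k) hz)
  obtain ⟨φ', hφ'⟩ := (hξ (PP k)).2 (nodeCl (zel' k) hz')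
  have h₁ : HomSet.map p₁ φ = HomSet.map p₁ φ' := (hξ _).1 (by rw [ξ.natural, ξ.natural, hφ, hφ']; exact e₁)
  have h₂ : HomSet.map p₂ φ = HomSet.map p₂ φ' := (hξ _).1 (by rw [ξ.natural, ξ.natural, hφ, hφ']; exact e₂)
  have hφφ' : φ = φ' := Subtype.ext (AlgHom.ext fun c => Subtype.ext (Prod.ext
    (congrArg (fun ψ : HomSet R.carrier R.res (art3 k) => ψ.1 c) h₁)
    (congrArg (fun ψ : HomSet R.carrier R.res (art3 k) => ψ.1 c) h₂)))
  have heq : nodeCl (zel k) hz = nodeCl (zel' k) hz' := by rw [← hφ, ← hφ', hφφ']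
  have := congrArg (F.map (thetaHom k)) heq
  rw [map_nodeCl (thetaHom k) (thetaHom_surjective k), map_nodeCl (thetaHom k) (thetaHom_surjective k)] at this
  exact nodeCl_eps_ne_zero ((nodeCl_congr (thetaHom_zel k) _).symm.trans
    (this.trans (nodeCl_congr (thetaHom_zel' k) _)))

end Groth.Agent.AffDefLib

end
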