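import Groth.Agent.AffDefLib.Torsor2
import Groth.Agent.CotTLib.Basic
import Mathlib.RingTheory.LocalRing.Module
import Mathlib.Algebra.Module.Projective

/-! Unobstructedness of affine deformations when `T² = 0`. -/

universe u

open CategoryTheory AlgebraicGeometry TensorProduct

noncomputable section

namespace Groth.Agent.AffDefLib

open ArtFun CotT

/-- A flat module over an Artinian local ring is free. -/
theorem free_of_flat_artinian {R : Type u} [CommRing R] [IsLocalRing R] [IsArtinianRing R] (M : Type u)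
    [AddCommGroup M] [Module R M] [Module.Flat R M] : Module.Free R M := by
  let K := IsLocalRing.ResidueField R
  let w := Module.Free.chooseBasis K (K ⊗[R] M)
  have hK : Function.Surjective (algebraMap R K) := IsLocalRing.residue_surjective
  obtain ⟨v, hv⟩ := (TensorProduct.mk_surjective R M K hK).comp_left w
  have hli : LinearIndependent R v := Module.IsLocalRing.linearIndependent_of_flat v (by
    rw [show (TensorProduct.mk R K M 1 ∘ v) = w from hv]
    exact w.linearIndependent)
  refine Module.Free.of_basis (Module.Basis.mk hli (ge_of_eq ?_))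
  obtain ⟨n, hn⟩ := IsArtinianRing.isNilpotent_jacobson_bot (R := R)
  rw [IsLocalRing.jacobson_eq_maximalIdeal ⊥ bot_ne_top] at hn
  refine eq_top_of_sup_smul _ _ hn (top_unique fun m _ => ?_)
  have h1 : TensorProduct.mk R K M 1 m ∈ Submodule.map (TensorProduct.mk R K M 1) (Submodule.span R (Set.range v)) := by
    rw [Submodule.map_span, ← Set.range_comp, show (TensorProduct.mk R K M 1 ∘ v) = w from hv,
      ← Submodule.restrictScalars_span R K hK, w.span_eq]
    trivial
  obtain ⟨y, hy, hy'⟩ := h1
  have h2 : m - y ∈ LinearMap.ker (TensorProduct.mk R K M 1) := by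
    rw [LinearMap.mem_ker, map_sub, hy', sub_self]
  replace h2 : m - y ∈ LinearMap.ker (TensorProduct.mk R (R ⧸ IsLocalRing.maximalIdeal R) M 1) := h2
  rw [LinearMap.ker_tensorProductMk] at h2
  exact add_sub_cancel y m ▸ Submodule.add_mem_sup hy h2

theorem le_of_le_sup_mul {R : Type u} [CommRing R] (I K S : Ideal R) {n : ℕ} (hn : I ^ n * K ≤ S)
    (h : K ≤ S ⊔ I * K) : K ≤ S := by
  have : ∀ m : ℕ, K ≤ S ⊔ I ^ m * K := fun m => by
    induction m with
    | zero => rw [pow_zero, one_mul]; exact le_sup_right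
    | succ m ih =>
      refine ih.trans (sup_le le_sup_left ?_)
      calc I ^ m * K ≤ I ^ m * (S ⊔ I * K) := Ideal.mul_mono_right h
        _ ≤ S ⊔ I ^ (m + 1) * K := by
          rw [Ideal.mul_sup, pow_succ, mul_assoc]
          exact sup_le_sup_right Ideal.mul_le_right _
  exact (this n).trans (sup_le le_rfl hn)

variable {k : Type u} [Field k] {B₀ : Type u} [CommRing B₀] [Algebra k B₀]
variable {A A' : Art k k} {p : A' ⟶ A}

theorem smallExt_gen (hp : Art.IsSmallExt p) :
    ∃ j : A', RingHom.ker p.toAlgHom = Ideal.span {j} ∧ ∀ c, j * c = 0 ↔ A'.res c = 0 := by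
  obtain ⟨⟨j, hj⟩⟩ := hp.2.2.1
  refine ⟨j, hj, fun c => ⟨fun h => ?_, fun h => ?_⟩⟩
  · rw [← Art.mem_maximalIdeal_iff]
    by_contra hu
    have hc : IsUnit c := of_not_not fun h' => hu ((IsLocalRing.mem_maximalIdeal c).2 h')
    have : j = 0 := hc.mul_left_eq_zero.1 h
    exact hp.2.1 (by rw [hj, this]; simp)
  · rw [mul_comm]
    exact j_mul_mem hp.isSemismallExt c ((Art.mem_maximalIdeal_iff A' c).2 h) j
      (hj ▸ Submodule.mem_span_singleton_self j)

variable (D : AlgDef k B₀ A)
variable {ι σ : Type u} (P : Algebra.Presentation k B₀ ι σ)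

variable (p) in
/-- The kernel of the reference map. -/
abbrev kerD : Ideal (LRing A' P) := RingHom.ker (toD p D P)

variable (A') in
/-- The extension of the maximal ideal. -/
abbrev maxR : Ideal (LRing A' P) := (IsLocalRing.maximalIdeal A').map (algebraMap A' (LRing A' P))

theorem ker_red : RingHom.ker (red (C' := A') P) = maxR A' P := by
  rw [maxR, ← AlgDef.ker_res A']
  exact MvPolynomial.ker_map A'.res.toRingHom

/-- The basic consequences of flatness. -/
theorem flat_facts (hp : Art.IsSmallExt p) {j : A'} (hj : RingHom.ker p.toAlgHom = Ideal.span {j})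
    (hjc : ∀ c, j * c = 0 ↔ A'.res c = 0) :
    (∀ G : LRing A' P, MvPolynomial.C j * G ∈ maxR A' P * kerD p D P → red P G ∈ P.toExtension.ker) ∧
      kerD p D P ⊓ maxR A' P ≤ maxR A' P * kerD p D P ⊔ Ideal.span {MvPolynomial.C j} ∧
      ∃ (κ : Type u) (e : κ → LRing A' P), (∀ x : LRing A' P, ∃ v : κ →₀ A',
          toD p D P (x - Finsupp.linearCombination A' e v) = 0) ∧
        (∀ v : κ →₀ A', toD p D P (Finsupp.linearCombination A' e v) = 0 → ∀ i, p (v i) = 0) ∧
        ∀ v : κ →₀ A', D.q (toD p D P (Finsupp.linearCombination A' e v)) = 0 → ∀ i, A'.res (v i) = 0 := by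
  letI : Algebra A' D.carrier := ((algebraMap A D.carrier).comp p.toAlgHom.toRingHom).toAlgebra
  have hAB : ∀ (c : A') (b : D.carrier), c • b = p c • b := fun c b => by
    rw [Algebra.smul_def (p c) b]
    rfl
  haveI := free_of_flat_artinian (R := A) D.carrier
  let κ := Module.Free.ChooseBasisIndex A D.carrier
  let bas : Module.Basis κ A D.carrier := Module.Free.chooseBasis A D.carrier
  choose e he using fun i => toD_surjective (D := D) P hp.1 (bas i)
  let π : (κ →₀ A') →ₗ[A'] D.carrier := Finsupp.linearCombination A' bas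
  have hπker : ∀ v, π v = 0 → ∀ i, p (v i) = 0 := by
    intro v hv i
    have h1 : Finsupp.linearCombination A bas (v.mapRange (fun c => p c) (map_zero _)) = 0 := by
      refine Eq.trans ?_ hv
      change _ = Finsupp.linearCombination A' (⇑bas) v
      rw [Finsupp.linearCombination_apply, Finsupp.linearCombination_apply,
        Finsupp.sum_mapRange_index (fun i => zero_smul A (bas i))]
      exact Finsupp.sum_congr fun i _ => (hAB _ _).symm
    have h2 : v.mapRange (fun c => p c) (map_zero _) = 0 :=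
      bas.linearIndependent (h1.trans (map_zero _).symm)
    simpa using DFunLike.congr_fun h2 i
  let σl : LRing A' P →ₗ[A'] D.carrier :=
    { toFun := toD p D P
      map_add' := map_add _
      map_smul' := fun c x => by
        rw [RingHom.id_apply, Algebra.smul_def, map_mul, Algebra.smul_def]
        exact congrArg (· * _) (toD_C P c) }
  have hπs : Function.Surjective π := fun b => by
    obtain ⟨v, rfl⟩ : ∃ v, Finsupp.linearCombination A bas v = b :=
      LinearMap.range_eq_top.1 (by rw [Finsupp.range_linearCombination, bas.span_eq]) b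
    induction v using Finsupp.induction with
    | zero => exact ⟨0, by rw [map_zero, map_zero]⟩
    | single_add i a v _ _ ih =>
      obtain ⟨v', hv'⟩ := ih
      obtain ⟨a', rfl⟩ := hp.1 a
      refine ⟨Finsupp.single i a' + v', ?_⟩
      rw [map_add, hv', map_add, Finsupp.linearCombination_single]
      congr 1
      exact (hAB _ _).trans (Finsupp.linearCombination_single A (v := ⇑bas) (p a') i).symm
  obtain ⟨L, hL⟩ := Module.projective_lifting_property π σl hπs
  have hL' : ∀ x, π (L x) = toD p D P x := LinearMap.congr_fun hL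
  have hΦ : ∀ v, toD p D P (Finsupp.linearCombination A' e v) = π v := LinearMap.congr_fun
    (show σl ∘ₗ Finsupp.linearCombination A' e = π from Finsupp.lhom_ext fun i a => by
      change σl (Finsupp.linearCombination A' e (Finsupp.single i a)) =
        Finsupp.linearCombination A' (⇑bas) (Finsupp.single i a)
      rw [Finsupp.linearCombination_single, Finsupp.linearCombination_single, map_smul]
      exact congrArg (a • ·) (he i))
  have hJ : ∀ x, toD p D P x = 0 → ∀ i, ∃ w, L x i = j * w := fun x hx i => by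
    have h1 : L x i ∈ RingHom.ker p.toAlgHom := hπker _ ((hL' x).trans hx) i
    rw [hj] at h1
    obtain ⟨w, hw⟩ := Ideal.mem_span_singleton'.1 h1
    exact ⟨w, by rw [← hw, mul_comm]⟩
  have hmK : ∀ x ∈ maxR A' P * kerD p D P, L x = 0 := by
    intro x hx
    induction hx using Submodule.mul_induction_on' with
    | mem_mul_mem a ha b hb =>
      revert b
      induction ha using Submodule.span_induction with
      | mem a ha =>
        obtain ⟨c, hc, rfl⟩ := ha
        intro b hb
        rw [← Algebra.smul_def, map_smul]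
        refine Finsupp.ext fun i => ?_
        obtain ⟨w, hw⟩ := hJ b hb i
        rw [Finsupp.smul_apply, hw, smul_eq_mul, ← mul_assoc, mul_comm c j,
          (hjc c).2 ((Art.mem_maximalIdeal_iff A' c).1 hc), zero_mul]
        rfl
      | zero => intro b _; rw [zero_mul, map_zero]
      | add a a' _ _ h h' => intro b hb; rw [add_mul, map_add, h b hb, h' b hb, add_zero]
      | smul r a _ h =>
        intro b hb
        rw [smul_eq_mul, mul_comm r a, mul_assoc]
        exact h _ (Ideal.mul_mem_left _ r hb)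
    | add a _ b _ ha hb => rw [map_add, ha, hb, add_zero]
  refine ⟨fun G hG => ?_, fun x hx => ?_, κ, e, fun x => ⟨L x, ?_⟩, fun v hv => hπker v ((hΦ v).symm.trans hv), fun v hv i => ?_⟩
  · have h0 : L (j • G) = 0 := by rw [Algebra.smul_def]; exact hmK _ hG
    rw [map_smul] at h0
    have hz : ∀ i, A'.res (L G i) = 0 := fun i => (hjc _).1 (DFunLike.congr_fun h0 i)
    change algebraMap P.toExtension.Ring B₀ (red P G) = 0
    rw [← q_toD (D := D) (p := p), ← hL']
    change D.q (Finsupp.linearCombination A' (⇑bas) (L G)) = 0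
    rw [Finsupp.linearCombination_apply, Finsupp.sum, map_sum]
    refine Finset.sum_eq_zero fun i _ => ?_
    rw [hAB, Algebra.smul_def, map_mul, D.q_algebraMap, Art.res_app, hz, map_zero, zero_mul]
  · obtain ⟨hxK, hxm⟩ := Submodule.mem_inf.1 hx
    let Φ := Finsupp.linearCombination A' e
    let Ψ : LRing A' P →ₗ[A'] LRing A' P := LinearMap.id - Φ ∘ₗ L
    have hΨK : ∀ y, Ψ y ∈ kerD p D P := fun y => by
      change toD p D P (y - Φ (L y)) = 0
      rw [map_sub, hΦ, hL', sub_self]
    have hxm' : x ∈ IsLocalRing.maximalIdeal A' • (⊤ : Submodule A' (LRing A' P)) := by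
      rw [Ideal.smul_top_eq_map]
      exact hxm
    have h1 : Ψ x ∈ maxR A' P * kerD p D P := by
      refine Submodule.smul_induction_on hxm' (fun c hc z _ => ?_) fun y z hy hz => ?_
      · rw [map_smul, Algebra.smul_def]
        exact Ideal.mul_mem_mul (Ideal.mem_map_of_mem _ hc) (hΨK z)
      · rw [map_add]; exact add_mem hy hz
    have h2 : Φ (L x) ∈ Ideal.span {(MvPolynomial.C j : LRing A' P)} := by
      change Finsupp.linearCombination A' e (L x) ∈ _
      rw [Finsupp.linearCombination_apply]
      refine Submodule.sum_mem _ fun i _ => ?_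
      obtain ⟨w, hw⟩ := hJ x hxK i
      refine Ideal.mem_span_singleton'.2 ⟨algebraMap A' (LRing A' P) w * e i, ?_⟩
      beta_reduce
      rw [hw, Algebra.smul_def, map_mul, mul_comm _ (MvPolynomial.C j)]
      exact (mul_assoc _ _ _).symm
    exact (sub_add_cancel x (Φ (L x))) ▸ Submodule.add_mem_sup h1 h2
  · rw [map_sub, hΦ, hL', sub_self]
  · rw [hΦ, ← RingHom.mem_ker, D.ker_q] at hv
    have h2 : π v ∈ IsLocalRing.maximalIdeal A • (⊤ : Submodule A D.carrier) := by
      rw [Ideal.smul_top_eq_map]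
      exact hv
    have h3 : ∀ y ∈ IsLocalRing.maximalIdeal A • (⊤ : Submodule A D.carrier),
        bas.repr y i ∈ IsLocalRing.maximalIdeal A := fun y hy => by
      refine Submodule.smul_induction_on hy (fun c hc z _ => ?_) fun y z hy hz => ?_
      · rw [map_smul, Finsupp.smul_apply, smul_eq_mul]; exact Ideal.mul_mem_right _ _ hc
      · rw [map_add, Finsupp.add_apply]; exact add_mem hy hz
    have h4 : π v = Finsupp.linearCombination A bas (v.mapRange (fun c => p c) (map_zero _)) := by
      change Finsupp.linearCombination A' (⇑bas) v = _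
      rw [Finsupp.linearCombination_apply, Finsupp.linearCombination_apply,
        Finsupp.sum_mapRange_index (fun i => zero_smul A (bas i))]
      exact Finsupp.sum_congr fun i _ => hAB _ _
    have h5 := h3 _ h2
    rw [h4, bas.repr_linearCombination, Finsupp.mapRange_apply, Art.mem_maximalIdeal_iff, Art.res_app] at h5
    exact h5

theorem C_mul_maxR (hp : Art.IsSmallExt p) {j : A'} (hj : RingHom.ker p.toAlgHom = Ideal.span {j}) :
    Ideal.span {(MvPolynomial.C j : LRing A' P)} * maxR A' P = ⊥ := by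
  have h : IsLocalRing.maximalIdeal A' * RingHom.ker p.toAlgHom = ⊥ := hp.2.2.2
  rw [hj, mul_comm] at h
  change Ideal.span {algebraMap A' (LRing A' P) j} * _ = _
  rw [← Set.image_singleton, ← Ideal.map_span, maxR, ← Ideal.map_mul, h, Ideal.map_bot]

theorem maxR_pow_eq_bot : ∃ n, maxR A' P ^ n = ⊥ := by
  obtain ⟨n, hn⟩ := IsArtinianRing.isNilpotent_jacobson_bot (R := A')
  rw [IsLocalRing.jacobson_eq_maximalIdeal ⊥ bot_ne_top] at hn
  exact ⟨n, by rw [maxR, ← Ideal.map_pow, hn, Ideal.zero_eq_bot, Ideal.map_bot]⟩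

/-- Any lift of relations of the presentation generates the kernel, together with `j`. -/
theorem kerD_le (hp : Art.IsSmallExt p) {j : A'} (hj : RingHom.ker p.toAlgHom = Ideal.span {j})
    (hjc : ∀ c, j * c = 0 ↔ A'.res c = 0) (F : σ → LRing A' P) (hF : ∀ s, toD p D P (F s) = 0)
    (hFred : ∀ s, red P (F s) = rel P s) :
    kerD p D P ≤ Ideal.span (Set.range F) ⊔ Ideal.span {MvPolynomial.C j} := by
  obtain ⟨-, hint, -⟩ := flat_facts D P hp hj hjc
  obtain ⟨n, hn⟩ := maxR_pow_eq_bot (A' := A') P
  refine le_of_le_sup_mul (maxR A' P) _ _ (n := n) (by rw [hn, Ideal.bot_mul]; exact bot_le) fun x hx => ?_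
  have h1 : red P x ∈ Ideal.map (red (C' := A') P) (Ideal.span (Set.range F)) := by
    rw [Ideal.map_span, ← Set.range_comp, show (red P ∘ F) = rel P from funext hFred]
    have h2 : red P x ∈ P.toExtension.ker := red_mem_ker P hx
    have h3 : red P x ∈ LinearMap.range (jmap P) := by rw [range_jmap]; exact h2
    rw [jmap, Finsupp.range_linearCombination] at h3
    exact h3
  obtain ⟨y, hy, hyx⟩ := (Ideal.mem_map_iff_of_surjective _ (red_surjective P)).1 h1
  have hyK : y ∈ kerD p D P := (Ideal.span_le.2 (by rintro _ ⟨s, rfl⟩; exact hF s) : _ ≤ kerD p D P) hy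
  have h3 : x - y ∈ maxR A' P := by rw [← ker_red, RingHom.mem_ker, map_sub, hyx, sub_self]
  have h4 := hint (Submodule.mem_inf.2 ⟨sub_mem hx hyK, h3⟩)
  rw [← sub_add_cancel x y]
  refine add_mem ?_ (Submodule.mem_sup_left (Submodule.mem_sup_left hy))
  have h5 : maxR A' P * kerD p D P ⊔ Ideal.span {MvPolynomial.C j} ≤
      Ideal.span (Set.range F) ⊔ Ideal.span {MvPolynomial.C j} ⊔ maxR A' P * kerD p D P :=
    sup_le le_sup_right (le_sup_right.trans le_sup_left)
  exact h5 h4

theorem maxR_mul_kerD_le (hp : Art.IsSmallExt p) {j : A'} (hj : RingHom.ker p.toAlgHom = Ideal.span {j})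
    (hjc : ∀ c, j * c = 0 ↔ A'.res c = 0) (F : σ → LRing A' P) (hF : ∀ s, toD p D P (F s) = 0)
    (hFred : ∀ s, red P (F s) = rel P s) :
    maxR A' P * kerD p D P ≤ maxR A' P * Ideal.span (Set.range F) := by
  refine (Ideal.mul_mono_right (kerD_le D P hp hj hjc F hF hFred)).trans ?_
  rw [Ideal.mul_sup, mul_comm _ (Ideal.span {MvPolynomial.C j}), C_mul_maxR P hp hj, sup_bot_eq]

section Fin

variable [Fintype σ] [DecidableEq σ]

omit [DecidableEq σ] in
theorem jmap_eq_sum (f : relMod P) : jmap P f = ∑ s, f s * rel P s := by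
  rw [jmap, Finsupp.linearCombination_apply]
  exact Finsupp.sum_fintype f (fun i c => c • rel P i) fun i => zero_smul _ (rel P i)

theorem exists_coeffs (F : σ → LRing A' P) {I : Ideal (LRing A' P)} {x : LRing A' P}
    (hx : x ∈ I * Ideal.span (Set.range F)) : ∃ u : σ → LRing A' P, (∀ s, u s ∈ I) ∧ ∑ s, u s * F s = x := by
  rw [← smul_eq_mul, Ideal.span, Submodule.mem_ideal_smul_span_iff_exists_sum] at hx
  obtain ⟨a, ha, rfl⟩ := hx
  refine ⟨fun s => a s, ha, ?_⟩
  exact (Finsupp.sum_fintype a (fun i c => c • F i) fun i => zero_smul _ (F i)).symm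

/-- The residue of a relation lifted to the lifted relations. -/
theorem exists_obstruction (hp : Art.IsSmallExt p) {j : A'} (hj : RingHom.ker p.toAlgHom = Ideal.span {j})
    (hjc : ∀ c, j * c = 0 ↔ A'.res c = 0) (F : σ → LRing A' P) (hF : ∀ s, toD p D P (F s) = 0)
    (hFred : ∀ s, red P (F s) = rel P s) :
    ∃ δ : L2 P →ₗ[B₀] B₀, ∀ q : relKer P, ∃ (Q : σ → LRing A' P) (g : LRing A' P),
      (∀ s, red P (Q s) = (q : relMod P) s) ∧ ∑ s, Q s * F s = MvPolynomial.C j * g ∧
      algebraMap P.toExtension.Ring B₀ (red P g) = δ (CotTLib.cl P q) := by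
  obtain ⟨hclaim, hint, -⟩ := flat_facts D P hp hj hjc
  have hj0 : A'.res j = 0 := by
    rw [← Art.mem_maximalIdeal_iff]
    exact kerP_le p (hj ▸ Ideal.mem_span_singleton_self j)
  have hlift : ∀ q : relKer P, ∃ (Q : σ → LRing A' P) (g : LRing A' P),
      (∀ s, red P (Q s) = (q : relMod P) s) ∧ ∑ s, Q s * F s = MvPolynomial.C j * g := by
    intro q
    choose Q hQ using fun s => red_surjective (C' := A') P ((q : relMod P) s)
    have hxK : ∑ s, Q s * F s ∈ kerD p D P := Ideal.sum_mem _ fun s _ => Ideal.mul_mem_left _ _ (hF s)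
    have hxm : ∑ s, Q s * F s ∈ maxR A' P := by
      rw [← ker_red, RingHom.mem_ker, map_sum]
      have hq : jmap P (q : relMod P) = 0 := q.2
      rw [jmap_eq_sum] at hq
      refine Eq.trans (Finset.sum_congr rfl fun s _ => ?_) hq
      rw [map_mul, hQ, hFred]
    have h1 := sup_le_sup_right (maxR_mul_kerD_le D P hp hj hjc F hF hFred) (Ideal.span {MvPolynomial.C j})
      (hint (Submodule.mem_inf.2 ⟨hxK, hxm⟩))
    obtain ⟨y, hy, z, hz, hyz⟩ := Submodule.mem_sup.1 h1
    obtain ⟨u, hu, rfl⟩ := exists_coeffs P F hy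
    obtain ⟨g, rfl⟩ := Ideal.mem_span_singleton'.1 hz
    refine ⟨fun s => Q s - u s, g, fun s => ?_, ?_⟩
    · have := hu s
      rw [← ker_red, RingHom.mem_ker] at this
      rw [map_sub, hQ, this, sub_zero]
    · simp only [sub_mul, Finset.sum_sub_distrib]
      rw [← hyz, add_sub_cancel_left, mul_comm]
  have huniq : ∀ (Q Q' : σ → LRing A' P) (g g' : LRing A' P), (∀ s, red P (Q s) = red P (Q' s)) →
      ∑ s, Q s * F s = MvPolynomial.C j * g → ∑ s, Q' s * F s = MvPolynomial.C j * g' →
      algebraMap P.toExtension.Ring B₀ (red P g) = algebraMap P.toExtension.Ring B₀ (red P g') := by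
    intro Q Q' g g' hQ h h'
    have h1 : MvPolynomial.C j * (g - g') ∈ maxR A' P * kerD p D P := by
      rw [mul_sub, ← h, ← h', ← Finset.sum_sub_distrib]
      refine Ideal.sum_mem _ fun s _ => ?_
      rw [← sub_mul]
      exact Ideal.mul_mem_mul (by rw [← ker_red, RingHom.mem_ker, map_sub, hQ, sub_self]) (hF s)
    have h2 : algebraMap P.toExtension.Ring B₀ (red P (g - g')) = 0 := hclaim _ h1
    rwa [map_sub, map_sub, sub_eq_zero] at h2
  choose Q g hQ hg using hlift
  let o : relKer P →ₗ[P.toExtension.Ring] B₀ :=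
    { toFun := fun q => algebraMap P.toExtension.Ring B₀ (red P (g q))
      map_add' := fun q q' => by
        rw [← map_add, ← map_add]
        refine huniq (Q (q + q')) (fun s => Q q s + Q q' s) _ _ (fun s => ?_) (hg _) ?_
        · rw [map_add, hQ, hQ, hQ]; rfl
        · simp only [add_mul, Finset.sum_add_distrib, hg, mul_add]
      map_smul' := fun r q => by
        obtain ⟨r', rfl⟩ := red_surjective (C' := A') P r
        rw [RingHom.id_apply, Algebra.smul_def, ← map_mul, ← map_mul]
        refine huniq (Q (red P r' • q)) (fun s => r' * Q q s) _ _ (fun s => ?_) (hg _) ?_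
        · rw [map_mul, hQ, hQ]; rfl
        · simp only [mul_assoc, ← Finset.mul_sum, hg]
          exact mul_left_comm _ _ _ }
  have htriv : ∀ t : trivRelKer P, o t.1 = 0 := by
    suffices ∀ y ∈ trivRel P, ∀ hy : y ∈ relKer P, o ⟨y, hy⟩ = 0 from fun t => this _ t.2 _
    intro y hy
    induction hy using Submodule.span_induction with
    | mem y hy =>
      obtain ⟨a, b, rfl⟩ := hy
      intro hy'
      choose aL haL using fun s => red_surjective (C' := A') P (a s)
      choose bL hbL using fun s => red_surjective (C' := A') P (b s)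
      let Ja := ∑ s, aL s * F s
      let Jb := ∑ s, bL s * F s
      have hred : ∀ (v : relMod P) (w : σ → LRing A' P), (∀ s, red P (w s) = v s) →
          red P (∑ s, w s * F s) = jmap P v := fun v w hw => by
        rw [jmap_eq_sum, map_sum]
        exact Finset.sum_congr rfl fun s _ => by rw [map_mul, hw, hFred]
      have h0 : (0 : B₀) = algebraMap P.toExtension.Ring B₀ (red P (0 : LRing A' P)) := by
        rw [map_zero, map_zero]
      rw [h0]
      refine huniq (Q ⟨_, hy'⟩) (fun s => Ja * bL s - Jb * aL s) _ _ (fun s => ?_) (hg _) ?_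
      · rw [hQ, map_sub, map_mul, map_mul, hbL, haL, hred a aL haL, hred b bL hbL]
        rfl
      · simp only [sub_mul, mul_assoc, Finset.sum_sub_distrib, ← Finset.mul_sum, mul_zero]
        rw [sub_eq_zero]
        exact mul_comm Ja Jb
    | zero => intro h; exact map_zero o
    | add y z hy hz ihy ihz =>
      intro h
      have := map_add o ⟨y, trivRel_le_relKer P hy⟩ ⟨z, trivRel_le_relKer P hz⟩
      rw [ihy, ihz, add_zero] at this
      exact this
    | smul r y hy ih =>
      intro h
      have := map_smul o r ⟨y, trivRel_le_relKer P hy⟩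
      rw [ih, smul_zero] at this
      exact this
  let δ₁ := LinearMap.liftBaseChange B₀ o
  have hδ : LinearMap.range ((trivRelKer P).subtype.baseChange B₀) ≤ LinearMap.ker δ₁ := by
    rw [LinearMap.range_le_ker_iff]
    refine TensorProduct.AlgebraTensorModule.ext fun b t => ?_
    rw [LinearMap.comp_apply, LinearMap.baseChange_tmul, LinearMap.liftBaseChange_tmul,
      Submodule.coe_subtype, htriv, smul_zero, LinearMap.zero_apply]
  refine ⟨Submodule.liftQ _ δ₁ hδ, fun q => ⟨Q q, g q, hQ q, hg q, ?_⟩⟩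
  rw [CotTLib.cl_apply, Submodule.liftQ_apply, LinearMap.liftBaseChange_tmul, one_smul]
  rfl

omit [DecidableEq σ] in
theorem sum_mul_sub_eq {R : Type*} [CommRing R] (c : R) (Q F h : σ → R) (g : R)
    (e : ∑ s, Q s * F s = c * g) :
    ∑ s, Q s * (F s - c * h s) = c * (g - ∑ s, Q s * h s) := by
  simp only [mul_sub, Finset.sum_sub_distrib, e, Finset.mul_sum]
  congr 1
  exact Finset.sum_congr rfl fun s _ => mul_left_comm _ _ _

theorem exists_exact_lifts' (hp : Art.IsSmallExt p) {j : A'} (hj : RingHom.ker p.toAlgHom = Ideal.span {j})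
    (F : σ → LRing A' P) (hF : ∀ s, toD p D P (F s) = 0) (hFred : ∀ s, red P (F s) = rel P s)
    (δ : L2 P →ₗ[B₀] B₀)
    (hδ : ∀ q : relKer P, ∃ (Q : σ → LRing A' P) (g : LRing A' P),
      (∀ s, red P (Q s) = (q : relMod P) s) ∧ ∑ s, Q s * F s = MvPolynomial.C j * g ∧
      algebraMap P.toExtension.Ring B₀ (red P g) = δ (CotTLib.cl P q))
    (h0 : toT2 P B₀ δ = 0) :
    ∃ F' : σ → LRing A' P, (∀ s, toD p D P (F' s) = 0) ∧ (∀ s, red P (F' s) = rel P s) ∧
      ∀ q : relKer P, ∃ Q : σ → LRing A' P, (∀ s, red P (Q s) = (q : relMod P) s) ∧ ∑ s, Q s * F' s = 0 := by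
  have hjK : (MvPolynomial.C j : LRing A' P) ∈ kerD p D P := by
    have h : p j = 0 := (hj ▸ Ideal.mem_span_singleton_self j : j ∈ RingHom.ker p.toAlgHom)
    rw [RingHom.mem_ker, toD_C, h, map_zero]
  rw [toT2, Submodule.mkQ_apply, Submodule.Quotient.mk_eq_zero] at h0
  obtain ⟨ψ, rfl⟩ := h0
  choose h hh using fun s => CotTLib.algebraMap_surjective P (ψ (L1basis P s))
  choose h' hh' using fun s => red_surjective (C' := A') P (h s)
  let F' : σ → LRing A' P := fun s => F s - MvPolynomial.C j * h' s
  have hj0 : red P (MvPolynomial.C j : LRing A' P) = 0 := by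
    rw [red_C, (Art.mem_maximalIdeal_iff A' _).1 (kerP_le p (hj ▸ Ideal.mem_span_singleton_self j)), map_zero]
  have hF' : ∀ s, toD p D P (F' s) = 0 := fun s => sub_mem (hF s) (Ideal.mul_mem_right _ _ hjK)
  have hF'red : ∀ s, red P (F' s) = rel P s := fun s => by
    rw [map_sub, map_mul, hj0, zero_mul, sub_zero, hFred]
  refine ⟨F', hF', hF'red, fun q => ?_⟩
  obtain ⟨Q, g, hQ, hQg, hgq⟩ := hδ q
  let g' := g - ∑ s, Q s * h' s
  have hQ' : ∑ s, Q s * F' s = MvPolynomial.C j * g' := by
    exact sum_mul_sub_eq (MvPolynomial.C j) Q F h' g hQg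
  have hg' : red P g' ∈ P.toExtension.ker := by
    change algebraMap P.toExtension.Ring B₀ (red P g') = 0
    rw [map_sub, map_sub, hgq, d2Star_apply, LinearMap.comp_apply, CotTLib.d2_cl, sub_eq_zero]
    have e1 : CotTLib.toL1 P (q : relMod P) = ∑ s, algebraMap P.toExtension.Ring B₀ ((q : relMod P) s) • L1basis P s := by
      conv_lhs => rw [← Finsupp.univ_sum_single (q : relMod P), map_sum]
      exact Finset.sum_congr rfl fun s _ => CotTLib.toL1_single P s _
    rw [e1, map_sum, map_sum, map_sum]
    refine Finset.sum_congr rfl fun s _ => ?_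
    rw [map_smul, map_mul, map_mul, hQ, hh', hh, smul_eq_mul]
  have hg'' : red P g' ∈ LinearMap.range (jmap P) := by rw [range_jmap]; exact hg'
  obtain ⟨a, ha⟩ := hg''
  choose aL haL using fun s => red_surjective (C' := A') P (a s)
  refine ⟨fun s => Q s - MvPolynomial.C j * aL s, fun s => ?_, ?_⟩
  · rw [map_sub, map_mul, hj0, zero_mul, sub_zero, hQ]
  · simp only [sub_mul, Finset.sum_sub_distrib, hQ', mul_assoc, ← Finset.mul_sum]
    rw [← mul_sub]
    have h5 : g' - ∑ s, aL s * F' s ∈ maxR A' P := by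
      rw [← ker_red, RingHom.mem_ker, map_sub, sub_eq_zero, ← ha, jmap_eq_sum, map_sum]
      exact Finset.sum_congr rfl fun s _ => by rw [map_mul, haL, hF'red]
    have h6 := Ideal.mul_mem_mul (Ideal.mem_span_singleton_self (MvPolynomial.C j : LRing A' P)) h5
    rw [C_mul_maxR P hp hj] at h6
    exact h6

theorem exists_exact_lifts (hp : Art.IsSmallExt p) {j : A'} (hj : RingHom.ker p.toAlgHom = Ideal.span {j})
    (hjc : ∀ c, j * c = 0 ↔ A'.res c = 0) (hT2 : Subsingleton (T2 P B₀)) :
    ∃ F' : σ → LRing A' P, (∀ s, toD p D P (F' s) = 0) ∧ (∀ s, red P (F' s) = rel P s) ∧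
      ∀ q : relKer P, ∃ Q : σ → LRing A' P, (∀ s, red P (Q s) = (q : relMod P) s) ∧ ∑ s, Q s * F' s = 0 := by
  choose F hF hFred using fun s => exists_red_eq (p := p) (D := D) P hp.isSemismallExt
    ⟨rel P s, P.relation_mem_ker s⟩
  replace hFred : ∀ s, red P (F s) = rel P s := hFred
  obtain ⟨δ, hδ⟩ := exists_obstruction D P hp hj hjc F hF hFred
  exact exists_exact_lifts' D P hp hj F hF hFred δ hδ (@Subsingleton.elim _ hT2 _ _)

/-- Existence of a lift of the deformation from lifted equations with lifted relations. -/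
theorem exists_isBC_of_exact (hp : Art.IsSmallExt p) {j : A'} (hj : RingHom.ker p.toAlgHom = Ideal.span {j})
    (hjc : ∀ c, j * c = 0 ↔ A'.res c = 0) (F : σ → LRing A' P) (hF : ∀ s, toD p D P (F s) = 0)
    (hFred : ∀ s, red P (F s) = rel P s)
    (hrel : ∀ q : relKer P, ∃ Q : σ → LRing A' P, (∀ s, red P (Q s) = (q : relMod P) s) ∧ ∑ s, Q s * F s = 0) :
    ∃ (D' : AlgDef k B₀ A') (f : D'.carrier →+* D.carrier), AlgDef.IsBC p D' D f := by
  obtain ⟨hclaim, -, κ, e, hspan, hindep, hindep0⟩ := flat_facts D P hp hj hjc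
  classical
  let I' : Ideal (LRing A' P) := Ideal.span (Set.range F)
  have hI' : I' ≤ kerD p D P := Ideal.span_le.2 (by rintro _ ⟨s, rfl⟩; exact hF s)
  let aE := algebraMap A' (LRing A' P ⧸ I')
  let f : LRing A' P ⧸ I' →+* D.carrier := Ideal.Quotient.lift I' (toD p D P) fun x hx => hI' hx
  have hfs : Function.Surjective f := fun b => by
    obtain ⟨r, rfl⟩ := toD_surjective P hp.1 b
    exact ⟨Ideal.Quotient.mk I' r, rfl⟩
  have hfa : ∀ c, f (aE c) = algebraMap A D.carrier (p c) := fun c => toD_C P c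
  have hker : RingHom.ker f = (RingHom.ker p.toAlgHom).map aE := by
    refine le_antisymm (fun x hx => ?_) (Ideal.map_le_iff_le_comap.2 fun c hc => ?_)
    · obtain ⟨r, rfl⟩ := Ideal.Quotient.mk_surjective x
      obtain ⟨y, hy, z, hz, rfl⟩ := Submodule.mem_sup.1 (kerD_le D P hp hj hjc F hF hFred hx)
      rw [map_add, Ideal.Quotient.eq_zero_iff_mem.2 hy, zero_add]
      obtain ⟨g, rfl⟩ := Ideal.mem_span_singleton'.1 hz
      rw [map_mul]
      exact Ideal.mul_mem_left _ _ (Ideal.mem_map_of_mem aE (hj ▸ Ideal.mem_span_singleton_self j))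
    · change f (aE c) = 0
      rw [hfa, show p c = 0 from hc, map_zero]
  let Φ : (κ →₀ A') →ₗ[A'] LRing A' P := Finsupp.linearCombination A' e
  let M := (Ideal.Quotient.mkₐ A' I').toLinearMap ∘ₗ Φ
  have hM : ∀ v, M v = Ideal.Quotient.mk I' (Φ v) := fun _ => rfl
  have hMs : Function.Surjective M := by
    rw [← LinearMap.range_eq_top]
    obtain ⟨n, hn⟩ := IsArtinianRing.isNilpotent_jacobson_bot (R := A')
    rw [IsLocalRing.jacobson_eq_maximalIdeal ⊥ bot_ne_top] at hn
    refine eq_top_of_sup_smul _ _ hn (top_unique fun x _ => ?_)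
    obtain ⟨r, rfl⟩ := Ideal.Quotient.mk_surjective x
    obtain ⟨v, hv⟩ := hspan r
    have h1 : Ideal.Quotient.mk I' (r - Φ v) ∈ (RingHom.ker p.toAlgHom).map aE := hker ▸ hv
    have h2 : Ideal.Quotient.mk I' (r - Φ v) ∈ IsLocalRing.maximalIdeal A' • (⊤ : Submodule A' (LRing A' P ⧸ I')) := by
      rw [Ideal.smul_top_eq_map]
      exact Ideal.map_mono (kerP_le p) h1
    have := Submodule.add_mem_sup (LinearMap.mem_range_self M v) h2
    rwa [hM, ← map_add, add_sub_cancel] at this
  have hMi : Function.Injective M := by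
    rw [← LinearMap.ker_eq_bot, Submodule.eq_bot_iff]
    intro v hv
    replace hv : Φ v ∈ I' := Ideal.Quotient.eq_zero_iff_mem.1 hv
    have hpz := hindep v (hI' hv)
    choose w hw using fun i => Ideal.mem_span_singleton'.1
      (show v i ∈ Ideal.span {j} from hj ▸ hpz i)
    let v' : κ →₀ A' := Finsupp.onFinset v.support (fun i => if v i = 0 then 0 else w i)
      fun i hi => Finsupp.mem_support_iff.2 fun h => hi (if_pos h)
    have hv' : v = j • v' := Finsupp.ext fun i => by
      rw [Finsupp.smul_apply, Finsupp.onFinset_apply, smul_eq_mul]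
      split_ifs with h
      · rw [h, mul_zero]
      · rw [mul_comm, hw]
    obtain ⟨u, -, hu⟩ := exists_coeffs P F (I := ⊤) (by rw [Ideal.top_mul]; exact hv)
    have hq : jmap P (Finsupp.equivFunOnFinite.symm fun s => red P (u s)) = 0 := by
      rw [jmap_eq_sum]
      have h2 : red P (Φ v) = 0 := by
        rw [hv', map_smul, Algebra.smul_def, map_mul,
          show red P (algebraMap A' (LRing A' P) j) = algebraMap k P.toExtension.Ring (A'.res j) from red_C P j,
          (Art.mem_maximalIdeal_iff A' _).1 (kerP_le p (hj ▸ Ideal.mem_span_singleton_self j)),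
          map_zero, zero_mul]
      rw [← hu, map_sum] at h2
      refine Eq.trans (Finset.sum_congr rfl fun s _ => ?_) h2
      rw [map_mul, hFred]
      rfl
    obtain ⟨Q, hQ, hQ0⟩ := hrel ⟨_, hq⟩
    have hmem : MvPolynomial.C j * Φ v' ∈ maxR A' P * kerD p D P := by
      have e1 : MvPolynomial.C j * Φ v' = ∑ s, (u s - Q s) * F s := by
        simp only [sub_mul, Finset.sum_sub_distrib, hQ0, sub_zero]
        rw [hu, hv', map_smul, Algebra.smul_def]
        rfl
      rw [e1]
      exact Ideal.sum_mem _ fun s _ => Ideal.mul_mem_mul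
        (by rw [← ker_red, RingHom.mem_ker, map_sub, hQ, sub_eq_zero]; rfl) (hF s)
    have h3 : toD p D P (Φ v') ∈ RingHom.ker D.q := by
      rw [RingHom.mem_ker, q_toD]
      exact hclaim _ hmem
    refine Finsupp.ext fun i => ?_
    rw [hv', Finsupp.smul_apply, smul_eq_mul, Finsupp.zero_apply]
    exact (hjc _).2 (hindep0 v' h3 i)
  let D' : AlgDef k B₀ A' :=
    { carrier := LRing A' P ⧸ I'
      flat := Module.Flat.of_linearEquiv (LinearEquiv.ofBijective M ⟨hMi, hMs⟩).symm
      q := D.q.comp f
      q_surjective := D.q_surjective.comp hfs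
      q_algebraMap := fun c => by
        change D.q (f (aE c)) = _
        rw [hfa, D.q_algebraMap, Art.res_app]
      ker_q := ker_q_comp hp.isSemismallExt aE f hfs hfa hker }
  exact ⟨D', f, hfs, hker, hfa, fun b => rfl⟩

/-- Existence of a lift of the deformation. -/
theorem exists_isBC_of_T2 (hp : Art.IsSmallExt p) (hT2 : Subsingleton (T2 P B₀)) :
    ∃ (D' : AlgDef k B₀ A') (f : D'.carrier →+* D.carrier), AlgDef.IsBC p D' D f := by
  obtain ⟨j, hj, hjc⟩ := smallExt_gen hp
  obtain ⟨F, hF, hFred, hrel⟩ := exists_exact_lifts D P hp hj hjc hT2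
  exact exists_isBC_of_exact D P hp hj hjc F hF hFred hrel

end Fin

theorem surjective_defFunctor_map (hp : Art.IsSmallExt p) [Finite σ] (hT2 : Subsingleton (T2 P B₀)) :
    Function.Surjective ((defFunctor (Λ := k) (Spec (CommRingCat.of B₀)) (str k B₀)).map p) := by
  intro x
  induction x using Quotient.inductionOn with
  | h ξ =>
    obtain ⟨D, ⟨a⟩⟩ := AlgDef.exists_iso_toDefSch ξ
    classical
    cases nonempty_fintype σ
    obtain ⟨D', f, hf⟩ := exists_isBC_of_T2 D P hp hT2
    exact ⟨D'.toDefSch.cl, Quotient.sound ⟨(hf.iso hp.1).trans a⟩⟩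

end Groth.Agent.AffDefLib

end
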