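import Groth.Agent.AffDefLib.Basic
import Groth.Agent.CotTLib.Basic
import Mathlib.RingTheory.Flat.EquationalCriterion
import Mathlib.Algebra.TrivSqZeroExt.Basic

/-! Extensions of a deformation of an affine scheme along a semismall extension form a torsor under `T¹`. -/

universe u

open CategoryTheory AlgebraicGeometry TensorProduct

noncomputable section

namespace Groth.Agent.AffDefLib

open ArtFun CotT

variable {k : Type u} [Field k] {B₀ : Type u} [CommRing B₀] [Algebra k B₀]
variable {C C' : Art k k} {p : C' ⟶ C}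

theorem eq_top_of_sup_smul {R : Type*} [CommRing R] {M : Type*} [AddCommGroup M] [Module R M]
    (N : Submodule R M) (I : Ideal R) {n : ℕ} (hn : I ^ n = 0)
    (h : N ⊔ I • (⊤ : Submodule R M) = ⊤) : N = ⊤ := by
  have hpow : ∀ m : ℕ, N ⊔ I ^ m • (⊤ : Submodule R M) = ⊤ := fun m => by
    induction m with
    | zero => rw [pow_zero, Ideal.one_eq_top, Submodule.top_smul, sup_top_eq]
    | succ m ih =>
      refine top_unique (ih.symm.le.trans (sup_le le_sup_left ?_))
      rw [← h, Submodule.smul_sup, pow_succ, Submodule.mul_smul]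
      refine sup_le (Submodule.smul_le_right.trans le_sup_left) ?_
      rw [h]
      exact le_sup_right
  have := hpow n
  rwa [hn, Ideal.zero_eq_bot, Submodule.bot_smul, sup_bot_eq] at this

/-- an extension of the algebra deformation `D` along `p` -/
structure Ext' (p : C' ⟶ C) (D : AlgDef k B₀ C) : Type (u + 1) where
  /-- the deformation over `C'` -/
  D' : AlgDef k B₀ C'
  /-- the reduction map -/
  f : D'.carrier →+* D.carrier
  isBC : AlgDef.IsBC p D' D f

variable {D : AlgDef k B₀ C}

/-- equivalence of extensions -/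
def Ext'.Equiv' (X Y : Ext' p D) : Prop :=
  ∃ e, AlgDef.IsIsoMap X.D' Y.D' e ∧ ∀ x, Y.f (e x) = X.f x

variable (p) (B₀) in
/-- `B₀ ⊗ J` -/
abbrev Mod : Type u := B₀ ⊗[k] ↥(RingHom.ker p.toAlgHom)

theorem j_mul_mem (hp : Art.IsSemismallExt p) (c : C') (hc : c ∈ IsLocalRing.maximalIdeal C') (j : C')
    (hj : j ∈ RingHom.ker p.toAlgHom) : c * j = 0 := by
  have h : c * j ∈ (⊥ : Ideal C') := hp.2 ▸ Ideal.mul_mem_mul hc hj
  exact h

theorem kerP_le (p : C' ⟶ C) : RingHom.ker p.toAlgHom ≤ IsLocalRing.maximalIdeal C' := fun j hj => by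
  rw [Art.mem_maximalIdeal_iff, ← Art.res_app p, show p j = 0 from hj, map_zero]

theorem q_eq_zero_of_sum_smul (E : AlgDef k B₀ C') {L : Type u} [Fintype L] (v : L → C')
    (hv : ∀ a : L → C', ∑ l, v l * a l = 0 → ∀ l, C'.res (a l) = 0) (x : L → E.carrier)
    (h : ∑ l, v l • x l = 0) (l : L) : E.q (x l) = 0 := by
  obtain ⟨m, a, y, hy, ha⟩ := Module.Flat.isTrivialRelation_of_sum_smul_eq_zero (f := v) (x := x) h
  rw [hy l, map_sum]
  refine Finset.sum_eq_zero fun t _ => ?_
  rw [Algebra.smul_def, map_mul, E.q_algebraMap, hv (fun l => a l t) (ha t) l, map_zero, zero_mul]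

theorem indep_res (hp : Art.IsSemismallExt p) {L : Type u} [Fintype L] (v : L → ↥(RingHom.ker p.toAlgHom))
    (hv : LinearIndependent k v) (a : L → C') (h : ∑ l, (v l : C') * a l = 0) (l : L) :
    C'.res (a l) = 0 := by
  refine Fintype.linearIndependent_iff.1 hv (fun l => C'.res (a l)) (Subtype.ext ?_) l
  refine Eq.trans ?_ h
  rw [Submodule.coe_sum]
  refine Finset.sum_congr rfl fun i _ => ?_
  have hm : a i - algebraMap k C' (C'.res (a i)) ∈ IsLocalRing.maximalIdeal C' := by
    rw [Art.mem_maximalIdeal_iff, map_sub, AlgHom.commutes]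
    exact sub_self _
  have h2 := j_mul_mem hp _ hm (v i : C') (v i).2
  rw [sub_mul, sub_eq_zero, mul_comm] at h2
  rw [h2]
  exact Algebra.smul_def _ _

namespace Ext'

variable (X : Ext' p D)

/-- a section of the reduction -/
def sec (b : B₀) : X.D'.carrier := (X.D'.q_surjective b).choose

theorem q_sec (b : B₀) : X.D'.q (X.sec b) = b := (X.D'.q_surjective b).choose_spec

theorem j_mul_congr (hp : Art.IsSemismallExt p) (j : ↥(RingHom.ker p.toAlgHom)) {x y : X.D'.carrier}
    (h : X.D'.q x = X.D'.q y) : algebraMap C' _ (j : C') * x = algebraMap C' _ (j : C') * y := by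
  have hxy : x - y ∈ RingHom.ker X.D'.q := by rw [RingHom.mem_ker, map_sub, h, sub_self]
  rw [X.D'.ker_q] at hxy
  rw [← sub_eq_zero, ← mul_sub]
  revert hxy
  generalize x - y = z
  intro hz
  induction hz using Submodule.span_induction with
  | mem w hw =>
    obtain ⟨c, hc, rfl⟩ := hw
    rw [← map_mul, mul_comm, j_mul_mem hp c hc j j.2, map_zero]
  | zero => rw [mul_zero]
  | add a b _ _ ha hb => rw [mul_add, ha, hb, add_zero]
  | smul a w _ hw => rw [smul_eq_mul, mul_left_comm, hw, mul_zero]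

theorem q_algebraMap' (c : k) : X.D'.q (algebraMap C' _ (algebraMap k C' c)) = algebraMap k B₀ c := by
  rw [X.D'.q_algebraMap, AlgHom.commutes]
  rfl

/-- the inclusion of `B₀ ⊗ J` -/
def μ (hp : Art.IsSemismallExt p) : Mod B₀ p →+ X.D'.carrier :=
  TensorProduct.liftAddHom
    (AddMonoidHom.mk' (fun b => AddMonoidHom.mk'
        (fun j : ↥(RingHom.ker p.toAlgHom) => algebraMap C' _ (j : C') * X.sec b)
        (fun j j' => by rw [Submodule.coe_add, map_add, add_mul]))
      fun b b' => AddMonoidHom.ext fun j => by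
        change algebraMap C' _ (j : C') * X.sec (b + b') = _ + _
        rw [X.j_mul_congr hp j (show X.D'.q (X.sec (b + b')) = X.D'.q (X.sec b + X.sec b') by
          rw [map_add, q_sec, q_sec, q_sec]), mul_add]
        rfl)
    fun c b j => by
      change algebraMap C' _ (j : C') * X.sec (c • b) =
        algebraMap C' _ (c • (j : C')) * X.sec b
      rw [X.j_mul_congr hp j (show X.D'.q (X.sec (c • b)) =
        X.D'.q (algebraMap C' _ (algebraMap k C' c) * X.sec b) by
          rw [map_mul, q_sec, q_sec, q_algebraMap', Algebra.smul_def]), Algebra.smul_def, map_mul]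
      ring

theorem μ_tmul (hp : Art.IsSemismallExt p) (j : ↥(RingHom.ker p.toAlgHom)) (x : X.D'.carrier) :
    X.μ hp (X.D'.q x ⊗ₜ j) = algebraMap C' _ (j : C') * x :=
  X.j_mul_congr hp j (X.q_sec _)

theorem mul_μ (hp : Art.IsSemismallExt p) (x : X.D'.carrier) (z : Mod B₀ p) :
    x * X.μ hp z = X.μ hp (X.D'.q x • z) := by
  induction z using TensorProduct.induction_on with
  | zero => rw [map_zero, mul_zero, smul_zero, map_zero]
  | add a b ha hb => rw [map_add, mul_add, ha, hb, smul_add, map_add]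
  | tmul b j =>
    obtain ⟨y, rfl⟩ := X.D'.q_surjective b
    rw [μ_tmul, TensorProduct.smul_tmul', smul_eq_mul, ← map_mul X.D'.q, μ_tmul, mul_left_comm]

theorem f_μ (hp : Art.IsSemismallExt p) (z : Mod B₀ p) : X.f (X.μ hp z) = 0 := by
  induction z using TensorProduct.induction_on with
  | zero => rw [map_zero, map_zero]
  | add a b ha hb => rw [map_add, map_add, ha, hb, add_zero]
  | tmul b j =>
    obtain ⟨y, rfl⟩ := X.D'.q_surjective b
    rw [μ_tmul, map_mul, X.isBC.2.2.1, show p (j : C') = 0 from j.2, map_zero, zero_mul]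

theorem q_μ (hp : Art.IsSemismallExt p) (z : Mod B₀ p) : X.D'.q (X.μ hp z) = 0 := by
  rw [← X.isBC.2.2.2, f_μ, map_zero]

theorem μ_mul_μ (hp : Art.IsSemismallExt p) (z z' : Mod B₀ p) : X.μ hp z * X.μ hp z' = 0 := by
  rw [mul_μ, q_μ, zero_smul, map_zero]

theorem exists_μ_eq (hp : Art.IsSemismallExt p) {x : X.D'.carrier} (hx : X.f x = 0) :
    ∃ z, X.μ hp z = x := by
  rw [← RingHom.mem_ker, X.isBC.2.1] at hx
  induction hx using Submodule.span_induction with
  | mem w hw =>
    obtain ⟨c, hc, rfl⟩ := hw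
    exact ⟨X.D'.q 1 ⊗ₜ ⟨c, hc⟩, by rw [μ_tmul, mul_one]⟩
  | zero => exact ⟨0, map_zero _⟩
  | add a b _ _ ha hb =>
    obtain ⟨z, rfl⟩ := ha
    obtain ⟨z', rfl⟩ := hb
    exact ⟨z + z', map_add _ _ _⟩
  | smul a w _ hw =>
    obtain ⟨z, rfl⟩ := hw
    exact ⟨X.D'.q a • z, by rw [← mul_μ, smul_eq_mul]⟩

theorem μ_injective (hp : Art.IsSemismallExt p) : Function.Injective (X.μ hp) := by
  rw [injective_iff_map_eq_zero]
  intro z hz
  classical
  let J := ↥(RingHom.ker p.toAlgHom)
  let bs := Module.Free.chooseBasis k J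
  let L := Module.Free.ChooseBasisIndex k J
  obtain ⟨w, rfl⟩ : ∃ w : L →₀ X.D'.carrier, z = w.sum fun l x => X.D'.q x ⊗ₜ[k] bs l := by
    refine ⟨(TensorProduct.equivFinsuppOfBasisRight bs z).mapRange
      (fun b => if b = 0 then 0 else X.sec b) (if_pos rfl), ?_⟩
    conv_lhs => rw [← (TensorProduct.equivFinsuppOfBasisRight bs).symm_apply_apply z,
      TensorProduct.equivFinsuppOfBasisRight_symm_apply]
    rw [Finsupp.sum_mapRange_index (fun l => by rw [map_zero, zero_tmul])]
    refine Finsupp.sum_congr fun l _ => ?_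
    by_cases hb : TensorProduct.equivFinsuppOfBasisRight bs z l = 0
    · rw [if_pos hb, hb, map_zero]
    · rw [if_neg hb, q_sec]
  rw [map_finsuppSum, Finsupp.sum] at hz
  replace hz : ∑ a ∈ w.support, ((bs a : ↥(RingHom.ker p.toAlgHom)) : C') • w a = 0 :=
    (Finset.sum_congr rfl fun a _ => (Algebra.smul_def _ _).trans (X.μ_tmul hp (bs a) (w a)).symm).trans hz
  rw [← Finset.sum_coe_sort] at hz
  have h0 := q_eq_zero_of_sum_smul X.D' (fun l : w.support => ((bs (l : L) : ↥(RingHom.ker p.toAlgHom)) : C'))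
    (indep_res hp (fun l : w.support => bs (l : L))
      (bs.linearIndependent.comp (fun l : w.support => (l : L)) Subtype.val_injective))
    (fun l : w.support => w (l : L)) hz
  exact Finset.sum_eq_zero fun l hl => by
    beta_reduce
    rw [show X.D'.q (w l) = 0 from h0 ⟨l, hl⟩, zero_tmul]

end Ext'

section Lifts

variable {ι σ : Type u} (P : Algebra.Presentation k B₀ ι σ)

variable (C') in
/-- the lifted polynomial ring -/
abbrev LRing (_P : Algebra.Presentation k B₀ ι σ) : Type u := MvPolynomial ι C'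

/-- reduction to the residue field -/
def red : LRing C' P →+* P.toExtension.Ring :=
  (MvPolynomial.map C'.res.toRingHom : MvPolynomial ι C' →+* MvPolynomial ι k)

theorem red_X (i : ι) : red P (MvPolynomial.X i : LRing C' P) = CotTLib.var P i := MvPolynomial.map_X _ i

theorem red_C (c : C') : red P (MvPolynomial.C c : LRing C' P) = algebraMap k P.toExtension.Ring (C'.res c) :=
  MvPolynomial.map_C _ c

theorem red_surjective : Function.Surjective (red (C' := C') P) :=
  MvPolynomial.map_surjective _ C'.res_surjective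

variable (D) in
/-- values of the variables in `D` -/
def dval (i : ι) : D.carrier := (D.q_surjective (P.val i)).choose

theorem q_dval (i : ι) : D.q (dval D P i) = P.val i := (D.q_surjective (P.val i)).choose_spec

variable (p D) in
/-- the reference map to `D` -/
def toD : LRing C' P →+* D.carrier :=
  MvPolynomial.eval₂Hom ((algebraMap C D.carrier).comp p.toAlgHom.toRingHom) (dval D P)

theorem q_toD (r : LRing C' P) :
    D.q (toD p D P r) = algebraMap P.toExtension.Ring B₀ (red P r) := by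
  have : (D.q).comp (toD p D P) = (algebraMap P.toExtension.Ring B₀).comp (red P) := by
    refine MvPolynomial.ringHom_ext (fun c => ?_) (fun i => ?_)
    · rw [RingHom.comp_apply, RingHom.comp_apply, toD, MvPolynomial.eval₂Hom_C, red_C,
        ← IsScalarTower.algebraMap_apply]
      exact (D.q_algebraMap (p c)).trans (congrArg _ (Art.res_app p c))
    · rw [RingHom.comp_apply, RingHom.comp_apply, toD, MvPolynomial.eval₂Hom_X', red_X, q_dval,
        CotTLib.algebraMap_var]
  exact RingHom.congr_fun this r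

theorem toD_C (c : C') : toD p D P (MvPolynomial.C c) = algebraMap C D.carrier (p c) :=
  MvPolynomial.eval₂Hom_C _ _ _

theorem toD_surjective (hps : Function.Surjective p) : Function.Surjective (toD p D P) := by
  let N : Submodule C D.carrier :=
    { carrier := Set.range (toD p D P)
      zero_mem' := ⟨0, map_zero _⟩
      add_mem' := by rintro _ _ ⟨r, rfl⟩ ⟨s, rfl⟩; exact ⟨r + s, map_add _ _ _⟩
      smul_mem' := by
        rintro c _ ⟨r, rfl⟩
        obtain ⟨c', rfl⟩ := hps c
        exact ⟨MvPolynomial.C c' * r, by rw [map_mul, toD_C, Algebra.smul_def]⟩ }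
  have hbase : N ⊔ IsLocalRing.maximalIdeal C • ⊤ = ⊤ := by
    refine top_unique fun b _ => ?_
    obtain ⟨r₀, hr₀⟩ := CotTLib.algebraMap_surjective P (D.q b)
    obtain ⟨r, rfl⟩ := red_surjective (C' := C') P r₀
    have : b - toD p D P r ∈ RingHom.ker D.q := by
      rw [RingHom.mem_ker, map_sub, q_toD, hr₀, sub_self]
    rw [D.ker_q] at this
    rw [← add_sub_cancel (toD p D P r) b]
    refine Submodule.add_mem_sup ⟨r, rfl⟩ ?_
    rw [Ideal.smul_top_eq_map]
    exact this
  obtain ⟨n, hn⟩ := IsArtinianRing.isNilpotent_jacobson_bot (R := C)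
  rw [IsLocalRing.jacobson_eq_maximalIdeal ⊥ bot_ne_top] at hn
  exact fun b => ((eq_top_of_sup_smul N _ hn hbase).symm ▸ Submodule.mem_top : b ∈ N)

theorem toD_C_mul_ker (j : C') (hj : j ∈ RingHom.ker p.toAlgHom) (r : LRing C' P) :
    toD p D P (MvPolynomial.C j * r) = 0 := by
  rw [map_mul, toD_C, show p j = 0 from hj, map_zero, zero_mul]

theorem red_mem_ker {r : LRing C' P} (h : toD p D P r = 0) : red P r ∈ P.toExtension.ker := by
  change algebraMap P.toExtension.Ring B₀ (red P r) = 0
  rw [← q_toD (D := D) (p := p), h, map_zero]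

/-- `ψ` lifts the reference map -/
def IsLift' (X : Ext' p D) (ψ : LRing C' P →ₐ[C'] X.D'.carrier) : Prop :=
  ∀ r, X.f (ψ r) = toD p D P r

theorem exists_lift' (X : Ext' p D) : ∃ ψ, IsLift' P X ψ := by
  choose ℓ hℓ using fun i => X.isBC.1 (dval D P i)
  refine ⟨MvPolynomial.aeval ℓ, fun r => ?_⟩
  have : X.f.comp (MvPolynomial.aeval ℓ : MvPolynomial ι C' →ₐ[C'] X.D'.carrier).toRingHom = toD p D P := by
    refine MvPolynomial.ringHom_ext (fun c => ?_) (fun i => ?_)
    · rw [toD_C]
      exact (congrArg X.f (MvPolynomial.aeval_C _ _)).trans (X.isBC.2.2.1 c)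
    · exact (congrArg X.f (MvPolynomial.aeval_X _ _)).trans ((hℓ i).trans (MvPolynomial.eval₂Hom_X' _ _ i).symm)
  exact RingHom.congr_fun this r

theorem IsLift'.q_eq {X : Ext' p D} {ψ : LRing C' P →ₐ[C'] X.D'.carrier} (h : IsLift' P X ψ) (r : LRing C' P) :
    X.D'.q (ψ r) = algebraMap P.toExtension.Ring B₀ (red P r) := by
  rw [← X.isBC.2.2.2, h, q_toD]

theorem ψ_C_mul {X : Ext' p D} (ψ : LRing C' P →ₐ[C'] X.D'.carrier) (c : C') (r : LRing C' P) :
    ψ (MvPolynomial.C c * r) = algebraMap C' _ c * ψ r := by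
  rw [map_mul]
  exact congrArg (· * ψ r) (ψ.commutes c)

/-- `φ` is the difference of the two lifts -/
def IsDiff (hp : Art.IsSemismallExt p) (X Y : Ext' p D) (ψX : LRing C' P →ₐ[C'] X.D'.carrier)
    (ψY : LRing C' P →ₐ[C'] Y.D'.carrier) (φ : P.toExtension.Cotangent →ₗ[B₀] Mod B₀ p) : Prop :=
  ∀ (r : LRing C' P) (hr : toD p D P r = 0) (z : Mod B₀ p), X.μ hp z = ψX r →
    Y.μ hp (z + φ (Algebra.Extension.Cotangent.mk ⟨red P r, red_mem_ker P hr⟩)) = ψY r

variable (hp : Art.IsSemismallExt p)

include hp in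
theorem exists_red_eq : ∀ x : P.toExtension.ker,
    ∃ r : LRing C' P, toD p D P r = 0 ∧ red P r = x := by
  rintro ⟨x, hx⟩
  obtain ⟨r, rfl⟩ := red_surjective (C' := C') P x
  have hb : toD p D P r ∈ RingHom.ker D.q := by
    rw [RingHom.mem_ker, q_toD]
    exact hx
  rw [D.ker_q] at hb
  suffices ∀ b ∈ (IsLocalRing.maximalIdeal C).map (algebraMap C D.carrier),
      ∃ s, toD p D P s = b ∧ red P s = 0 by
    obtain ⟨s, hs, hs'⟩ := this _ hb
    exact ⟨r - s, by rw [map_sub, hs, sub_self], by rw [map_sub, hs', sub_zero]⟩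
  intro b hb
  induction hb using Submodule.span_induction with
  | mem w hw =>
    obtain ⟨c, hc, rfl⟩ := hw
    obtain ⟨c', rfl⟩ := hp.1 c
    refine ⟨MvPolynomial.C c', toD_C P c', ?_⟩
    rw [red_C, ← Art.res_app p c', (Art.mem_maximalIdeal_iff C _).1 hc, map_zero]
  | zero => exact ⟨0, map_zero _, map_zero _⟩
  | add a b _ _ ha hb =>
    obtain ⟨s, rfl, hs⟩ := ha
    obtain ⟨s', rfl, hs'⟩ := hb
    exact ⟨s + s', map_add _ _ _, by rw [map_add, hs, hs', add_zero]⟩
  | smul a w _ hw =>
    obtain ⟨s, rfl, hs⟩ := hw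
    obtain ⟨a', rfl⟩ := toD_surjective P hp.1 a
    exact ⟨a' * s, map_mul _ _ _, by rw [map_mul, hs, mul_zero]⟩

theorem exists_diff {X Y : Ext' p D} {ψX : LRing C' P →ₐ[C'] X.D'.carrier}
    {ψY : LRing C' P →ₐ[C'] Y.D'.carrier} (hX : IsLift' P X ψX) (hY : IsLift' P Y ψY) :
    ∃ φ, IsDiff P hp X Y ψX ψY φ := by
  classical
  let K := {r : LRing C' P // toD p D P r = 0}
  choose zX hzX using fun r : K => X.exists_μ_eq hp ((hX r.1).trans r.2)
  choose zY hzY using fun r : K => Y.exists_μ_eq hp ((hY r.1).trans r.2)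
  let d : K → Mod B₀ p := fun r => zY r - zX r
  have iX := X.μ_injective hp
  have iY := Y.μ_injective hp
  have dadd : ∀ r s t : K, t.1 = r.1 + s.1 → d t = d r + d s := fun r s t h => by
    have h1 : zX t = zX r + zX s := iX (by rw [map_add, hzX, hzX, hzX, h, map_add])
    have h2 : zY t = zY r + zY s := iY (by rw [map_add, hzY, hzY, hzY, h, map_add])
    simp only [d, h1, h2]
    abel
  have dmul : ∀ (a : LRing C' P) (r t : K), t.1 = a * r.1 →
      d t = algebraMap P.toExtension.Ring B₀ (red P a) • d r := fun a r t h => by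
    have h1 : zX t = algebraMap P.toExtension.Ring B₀ (red P a) • zX r :=
      iX (by rw [← hX.q_eq P a, ← X.mul_μ, hzX, hzX, h, map_mul])
    have h2 : zY t = algebraMap P.toExtension.Ring B₀ (red P a) • zY r :=
      iY (by rw [← hY.q_eq P a, ← Y.mul_μ, hzY, hzY, h, map_mul])
    simp only [d, h1, h2, smul_sub]
  have djr : ∀ (j : C') (hj : j ∈ RingHom.ker p.toAlgHom) (r : LRing C' P) (t : K),
      t.1 = MvPolynomial.C j * r → d t = 0 := fun j hj r t h => by
    have h1 : zX t = algebraMap P.toExtension.Ring B₀ (red P r) ⊗ₜ ⟨j, hj⟩ :=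
      iX (by rw [hzX, ← hX.q_eq P r, X.μ_tmul, h, ψ_C_mul])
    have h2 : zY t = algebraMap P.toExtension.Ring B₀ (red P r) ⊗ₜ ⟨j, hj⟩ :=
      iY (by rw [hzY, ← hY.q_eq P r, Y.μ_tmul, h, ψ_C_mul])
    simp only [d, h1, h2, sub_self]
  let Kz : Submodule (LRing C' P) (LRing C' P) :=
    { carrier := {r | ∃ h : toD p D P r = 0, d ⟨r, h⟩ = 0}
      zero_mem' := ⟨map_zero _, by
        have := dadd ⟨0, map_zero _⟩ ⟨0, map_zero _⟩ ⟨0, map_zero _⟩ (add_zero _).symm
        exact left_eq_add.1 this⟩
      add_mem' := by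
        rintro r s ⟨hr, hr'⟩ ⟨hs, hs'⟩
        exact ⟨by rw [map_add, hr, hs, add_zero],
          by rw [dadd ⟨r, hr⟩ ⟨s, hs⟩ ⟨r + s, _⟩ rfl, hr', hs', add_zero]⟩
      smul_mem' := by
        rintro a r ⟨hr, hr'⟩
        exact ⟨by rw [smul_eq_mul, map_mul, hr, mul_zero],
          by rw [dmul a ⟨r, hr⟩ ⟨a • r, _⟩ rfl, hr', smul_zero]⟩ }
  have key : ∀ r : K, red P r.1 = 0 → d r = 0 := by
    rintro ⟨r, hr⟩ hred
    suffices r ∈ Kz from this.2
    have hmem : r ∈ (IsLocalRing.maximalIdeal C').map (MvPolynomial.C : C' →+* LRing C' P) := by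
      rw [← AlgDef.ker_res, ← MvPolynomial.ker_map]
      exact hred
    obtain ⟨N, c, g, rfl⟩ : ∃ (N : ℕ) (c : Fin N → IsLocalRing.maximalIdeal C') (g : Fin N → LRing C' P),
        r = ∑ t, MvPolynomial.C (c t : C') * g t := by
      clear hr hred
      induction hmem using Submodule.span_induction with
      | mem w hw =>
        obtain ⟨c, hc, rfl⟩ := hw
        exact ⟨1, fun _ => ⟨c, hc⟩, fun _ => 1, by simp⟩
      | zero => exact ⟨0, fun t => t.elim0, fun t => t.elim0, by simp⟩
      | add a b _ _ ha hb =>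
        obtain ⟨N, c, g, rfl⟩ := ha
        obtain ⟨N', c', g', rfl⟩ := hb
        refine ⟨N + N', Fin.append c c', Fin.append g g', ?_⟩
        rw [Fin.sum_univ_add]
        simp
      | smul a w _ hw =>
        obtain ⟨N, c, g, rfl⟩ := hw
        exact ⟨N, c, fun t => a * g t, by rw [smul_eq_mul, Finset.mul_sum]; exact Finset.sum_congr rfl fun t _ => by ring⟩
    have hsum : ∑ t, p (c t : C') • toD p D P (g t) = 0 := by
      refine Eq.trans ?_ hr
      rw [map_sum]
      refine Finset.sum_congr rfl fun t _ => ?_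
      rw [map_mul, toD_C, Algebra.smul_def]
    obtain ⟨U, a, y, hy, ha⟩ := Module.Flat.isTrivialRelation_of_sum_smul_eq_zero
      (f := fun t => p (c t : C')) (x := fun t => toD p D P (g t)) hsum
    choose a' ha' using fun t u => hp.1 (a t u)
    choose y' hy' using fun u => toD_surjective P hp.1 (y u)
    have hsplit : ∑ t, MvPolynomial.C (c t : C') * g t =
        (∑ t, MvPolynomial.C (c t : C') * (g t - ∑ u, MvPolynomial.C (a' t u) * y' u)) +
          ∑ u, MvPolynomial.C (∑ t, (c t : C') * a' t u) * y' u := by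
      simp only [map_sum, map_mul, Finset.sum_mul, mul_sub, Finset.mul_sum, Finset.sum_sub_distrib]
      rw [Finset.sum_comm (γ := Fin N)]
      simp only [mul_assoc, sub_add_cancel]
    rw [hsplit]
    refine add_mem (sum_mem fun t _ => ?_) (sum_mem fun u _ => ?_)
    · have hk : toD p D P (g t - ∑ u, MvPolynomial.C (a' t u) * y' u) = 0 := by
        rw [map_sub, map_sum, sub_eq_zero]
        refine (hy t).trans (Finset.sum_congr rfl fun u _ => ?_)
        rw [map_mul, toD_C, ha', hy', Algebra.smul_def]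
      refine ⟨by rw [map_mul, hk, mul_zero], ?_⟩
      rw [dmul (MvPolynomial.C (c t : C')) ⟨_, hk⟩ ⟨_, _⟩ rfl, red_C,
        (Art.mem_maximalIdeal_iff C' _).1 (c t).2, map_zero, map_zero, zero_smul]
    · have hj : (∑ t, (c t : C') * a' t u) ∈ RingHom.ker p.toAlgHom := by
        rw [RingHom.mem_ker, map_sum]
        refine Eq.trans (Finset.sum_congr rfl fun t _ => ?_) (ha u)
        rw [map_mul]
        exact congrArg _ (ha' t u)
      exact ⟨toD_C_mul_ker P _ hj _, djr _ hj _ _ rfl⟩
  have wd : ∀ r s : K, red P r.1 = red P s.1 → d r = d s := fun r s h => by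
    let t : K := ⟨r.1 - s.1, by rw [map_sub, r.2, s.2, sub_self]⟩
    rw [dadd s t r (add_sub_cancel s.1 r.1).symm, key t (by rw [map_sub, h, sub_self]), add_zero]
  have hlift : ∀ x : P.toExtension.ker, ∃ r : K, red P r.1 = x := fun x =>
    let ⟨r, hr, hx⟩ := exists_red_eq (p := p) (D := D) P hp x
    ⟨⟨r, hr⟩, hx⟩
  choose lft hlft using hlift
  have hsq : ∀ x y : P.toExtension.ker, Algebra.Extension.Cotangent.mk x = Algebra.Extension.Cotangent.mk y →
      d (lft x) = d (lft y) := by
    intro x y h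
    rw [Algebra.Extension.Cotangent.mk_eq_mk_iff_sub_mem, pow_two] at h
    suffices ∀ w ∈ P.toExtension.ker * P.toExtension.ker, ∀ r : K, red P r.1 = w → d r = 0 by
      let t : K := ⟨(lft x).1 - (lft y).1, by rw [map_sub, (lft x).2, (lft y).2, sub_self]⟩
      rw [dadd (lft y) t (lft x) (add_sub_cancel _ _).symm, this _ h t (by rw [map_sub, hlft, hlft]),
        add_zero]
    intro w hw
    induction hw using Submodule.mul_induction_on' with
    | mem_mul_mem a ha b hb =>
      intro r hr
      let t : K := ⟨(lft ⟨a, ha⟩).1 * (lft ⟨b, hb⟩).1, by rw [map_mul, (lft ⟨b, hb⟩).2, mul_zero]⟩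
      rw [wd r t (by rw [hr, map_mul, hlft, hlft]), dmul _ (lft ⟨b, hb⟩) t rfl, hlft,
        show algebraMap P.toExtension.Ring B₀ a = 0 from ha, zero_smul]
    | add a ha b hb iha ihb =>
      intro r hr
      have ha' : a ∈ P.toExtension.ker := Ideal.mul_le_left ha
      have hb' : b ∈ P.toExtension.ker := Ideal.mul_le_left hb
      let t : K := ⟨(lft ⟨a, ha'⟩).1 + (lft ⟨b, hb'⟩).1, by
        rw [map_add, (lft _).2, (lft _).2, add_zero]⟩
      rw [wd r t (by rw [hr, map_add, hlft, hlft]), dadd _ _ t rfl, iha _ (hlft _), ihb _ (hlft _), add_zero]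
  choose mksec hmksec using (Algebra.Extension.Cotangent.mk_surjective (P := P.toExtension))
  choose secR hsecR using red_surjective (C' := C') P
  choose secB hsecB using CotTLib.algebraMap_surjective P
  refine ⟨{ toFun := fun c => d (lft (mksec c))
            map_add' := fun x y => by
              rw [hsq (mksec (x + y)) (mksec x + mksec y) (by rw [map_add, hmksec, hmksec, hmksec])]
              let t : K := ⟨(lft (mksec x)).1 + (lft (mksec y)).1, by
                rw [map_add, (lft _).2, (lft _).2, add_zero]⟩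
              rw [← dadd _ _ t rfl]
              exact wd _ t (by rw [hlft, map_add, hlft, hlft]; rfl)
            map_smul' := fun b x => by
              rw [RingHom.id_apply, hsq (mksec (b • x)) (secB b • mksec x) (by
                rw [map_smul, hmksec, hmksec, ← algebraMap_smul B₀ (secB b) x, hsecB])]
              let a := secR (secB b)
              let t : K := ⟨a * (lft (mksec x)).1, by rw [map_mul, (lft _).2, mul_zero]⟩
              rw [wd _ t (by rw [hlft, map_mul, hlft, hsecR]; rfl), dmul a _ t rfl, hsecR, hsecB] },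
    fun r hr z hz => ?_⟩
  change Y.μ hp (z + d (lft (mksec _))) = _
  rw [hsq _ ⟨red P r, red_mem_ker P hr⟩ (hmksec _), wd _ ⟨r, hr⟩ (hlft _)]
  have : z = zX ⟨r, hr⟩ := iX (hz.trans (hzX ⟨r, hr⟩).symm)
  rw [this, add_sub_cancel]
  exact hzY ⟨r, hr⟩

end Lifts

end Groth.Agent.AffDefLib

end
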