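import Groth.Agent.AffDefLib.Torsor

/-! The torsor structure on extensions of an affine deformation. -/

universe u

open CategoryTheory AlgebraicGeometry TensorProduct

noncomputable section

namespace Groth.Agent.AffDefLib

open ArtFun CotT

variable {k : Type u} [Field k] {B₀ : Type u} [CommRing B₀] [Algebra k B₀]
variable {C C' : Art k k} {p : C' ⟶ C} {D : AlgDef k B₀ C}
variable {ι σ : Type u} (P : Algebra.Presentation k B₀ ι σ)
variable (hp : Art.IsSemismallExt p)

namespace Ext'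

variable (X : Ext' p D)

theorem mul_formula (x y : X.D'.carrier) (z z' : Mod B₀ p) :
    (x + X.μ hp z) * (y + X.μ hp z') = x * y + X.μ hp (X.D'.q x • z' + X.D'.q y • z) := by
  rw [map_add, ← X.mul_μ hp x z', ← X.mul_μ hp y z, add_mul, mul_add, mul_add, μ_mul_μ, add_zero,
    mul_comm (X.μ hp z) y]
  abel

theorem map_μ {Y : Ext' p D} {e : X.D'.carrier ≃+* Y.D'.carrier} (he : AlgDef.IsIsoMap X.D' Y.D' e)
    (z : Mod B₀ p) : e (X.μ hp z) = Y.μ hp z := by
  induction z using TensorProduct.induction_on with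
  | zero => rw [map_zero, map_zero, map_zero]
  | add a b ha hb => rw [map_add, map_add, ha, hb, map_add]
  | tmul b j =>
    obtain ⟨x, rfl⟩ := X.D'.q_surjective b
    rw [μ_tmul, map_mul, he.1]
    conv_rhs => rw [← he.2 x, μ_tmul]

end Ext'

theorem exists_extend_cotangent (φ : P.toExtension.Cotangent →ₗ[B₀] Mod B₀ p) :
    ∃ L : LRing C' P →+ Mod B₀ p,
      (∀ (c : C') r, L (algebraMap C' (LRing C' P) c * r) =
        ((algebraMap P.toExtension.Ring B₀).comp (red P)) (algebraMap C' (LRing C' P) c) • L r) ∧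
      (∀ a r, ((algebraMap P.toExtension.Ring B₀).comp (red P)) r = 0 →
        L (a * r) = ((algebraMap P.toExtension.Ring B₀).comp (red P)) a • L r) ∧
      ∀ r (h : red P r ∈ P.toExtension.ker), L r = φ (Algebra.Extension.Cotangent.mk ⟨red P r, h⟩) := by
  let I₀ : Submodule k P.toExtension.Ring := P.toExtension.ker.restrictScalars k
  let φI : I₀ →ₗ[k] Mod B₀ p :=
    { toFun := fun x => φ (Algebra.Extension.Cotangent.mk ⟨x.1, x.2⟩)
      map_add' := fun x y => by rw [← map_add, ← map_add]; rfl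
      map_smul' := fun c x => by
        rw [RingHom.id_apply,
          show (⟨(c • x).1, (c • x).2⟩ : P.toExtension.ker) = algebraMap k P.toExtension.Ring c •
            ⟨x.1, x.2⟩ from Subtype.ext (Algebra.smul_def c x.1),
          map_smul, ← algebraMap_smul B₀ (algebraMap k P.toExtension.Ring c), map_smul,
          ← IsScalarTower.algebraMap_apply, algebraMap_smul] }
  obtain ⟨L, hL⟩ := LinearMap.exists_extend φI
  replace hL : ∀ x : P.toExtension.ker, L x = φ (Algebra.Extension.Cotangent.mk x) := fun x =>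
    LinearMap.congr_fun hL ⟨x.1, x.2⟩
  refine ⟨L.toAddMonoidHom.comp (red P).toAddMonoidHom, fun c r => ?_, fun a r hr => ?_,
    fun r h => hL ⟨red P r, h⟩⟩
  · have e : red P (algebraMap C' (LRing C' P) c) = algebraMap k P.toExtension.Ring (C'.res c) := red_C P c
    change L (red P (algebraMap C' (LRing C' P) c * r)) =
      algebraMap P.toExtension.Ring B₀ (red P (algebraMap C' (LRing C' P) c)) • L (red P r)
    rw [map_mul (red P), e, ← Algebra.smul_def (C'.res c) (red P r), map_smul L,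
      ← IsScalarTower.algebraMap_apply, algebraMap_smul]
  · let x : P.toExtension.ker := ⟨red P r, hr⟩
    change L (red P (a * r)) = algebraMap P.toExtension.Ring B₀ (red P a) • L (red P r)
    rw [map_mul (red P), show red P a * red P r = ((red P a • x : P.toExtension.ker) : P.toExtension.Ring) from rfl,
      hL, map_smul, ← algebraMap_smul B₀ (red P a), map_smul, ← hL x]

theorem exists_twisted_ring {A R E₀ B₁ Q : Type u} [CommRing A] [CommRing R] [CommRing E₀] [CommRing B₁]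
    [CommRing Q] [Algebra A R] [Algebra A E₀] {M : Type u} [AddCommGroup M] [Module B₁ M] (χ : R →+* B₁)
    (ψ₀ : R →ₐ[A] E₀) (q₀ : E₀ →+* B₁) (hq : ∀ r, q₀ (ψ₀ r) = χ r) (μ₀ : M →+ E₀)
    (hμ : ∀ x z, x * μ₀ z = μ₀ (q₀ x • z)) (hqμ : ∀ z, q₀ (μ₀ z) = 0)
    (hdec : ∀ x, ∃ r z, x = ψ₀ r + μ₀ z) (L : R →+ M)
    (hLA : ∀ (a : A) r, L (algebraMap A R a * r) = χ (algebraMap A R a) • L r)
    (hL : ∀ a r, χ r = 0 → L (a * r) = χ a • L r) (f₀ : E₀ →+* Q) (hf₀ : ∀ z, f₀ (μ₀ z) = 0) :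
    ∃ (E : Type u) (_ : CommRing E) (_ : Algebra A E) (u : E ≃ₗ[A] E₀) (fE : E →+* Q)
      (ψ : R →ₐ[A] E) (μ : M →+ E), (∀ r z, u (ψ r + μ z) = ψ₀ r + μ₀ (z + L r)) ∧
      (∀ x, ∃ r z, x = ψ r + μ z) ∧ (∀ r z, ψ r * μ z = μ (χ r • z)) ∧ ∀ x, fE x = f₀ (u x) := by
  letI : Module R M := Module.compHom _ χ
  have hsm : ∀ (r : R) (z : M), r • z = χ r • z := fun _ _ => rfl
  letI : Module Rᵐᵒᵖ M := Module.compHom _ (RingEquiv.toOpposite R).symm.toRingHom
  haveI : IsCentralScalar R M := ⟨fun _ _ => rfl⟩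
  let T := TrivSqZeroExt R M
  letI : Algebra A T := ((TrivSqZeroExt.inlHom R M).comp (algebraMap A R)).toAlgebra
  let Λ : T →ₗ[A] E₀ :=
    { toFun := fun t => ψ₀ t.fst + μ₀ (t.snd + L t.fst)
      map_add' := fun s t => by
        change ψ₀ (s.fst + t.fst) + μ₀ (s.snd + t.snd + L (s.fst + t.fst)) = _
        simp only [map_add]
        abel
      map_smul' := fun c t => by
        rw [RingHom.id_apply, Algebra.smul_def]
        change ψ₀ (TrivSqZeroExt.inl (algebraMap A R c) * t).fst +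
          μ₀ ((TrivSqZeroExt.inl (algebraMap A R c) * t).snd +
            L (TrivSqZeroExt.inl (algebraMap A R c) * t).fst) = _
        rw [TrivSqZeroExt.fst_mul, TrivSqZeroExt.snd_mul, TrivSqZeroExt.fst_inl, TrivSqZeroExt.snd_inl,
          smul_zero, add_zero, map_mul ψ₀, hsm, hLA, ← smul_add, ← hq, ← hμ, AlgHom.commutes,
          Algebra.smul_def, mul_add] }
  have hΛ : ∀ t : T, Λ t = ψ₀ t.fst + μ₀ (t.snd + L t.fst) := fun _ => rfl
  have hfst : ∀ t : T, Λ t = 0 → χ t.fst = 0 := fun t ht => by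
    have := congrArg q₀ ht
    rwa [hΛ, map_add, hqμ, add_zero, hq, map_zero] at this
  let J' : Ideal T :=
    { carrier := {t | Λ t = 0}
      zero_mem' := map_zero Λ
      add_mem' := fun {a b} (ha : Λ a = 0) (hb : Λ b = 0) => by
        change Λ (a + b) = 0
        rw [map_add, ha, hb, add_zero]
      smul_mem' := fun a t (ht : Λ t = 0) => by
        change Λ (a * t) = 0
        rw [hΛ, TrivSqZeroExt.fst_mul, TrivSqZeroExt.snd_mul, op_smul_eq_smul, hsm, hsm, hfst t ht,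
          zero_smul, add_zero, hL _ _ (hfst t ht), ← smul_add, map_mul ψ₀, ← hq, ← hμ, ← mul_add]
        exact (congrArg (ψ₀ a.fst * ·) ht).trans (mul_zero _) }
  let u : (T ⧸ J') →ₗ[A] E₀ :=
    { toFun := Quotient.lift Λ fun a b hab => sub_eq_zero.1 <| (map_sub Λ a b).symm.trans
        ((Submodule.quotientRel_def J').1 hab)
      map_add' := fun x y => by
        obtain ⟨a, rfl⟩ := Ideal.Quotient.mk_surjective x
        obtain ⟨b, rfl⟩ := Ideal.Quotient.mk_surjective y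
        exact map_add Λ a b
      map_smul' := fun c x => by
        obtain ⟨a, rfl⟩ := Ideal.Quotient.mk_surjective x
        exact map_smul Λ c a }
  have hub : Function.Bijective u := by
    refine ⟨fun x y h => ?_, fun x => ?_⟩
    · obtain ⟨a, rfl⟩ := Ideal.Quotient.mk_surjective x
      obtain ⟨b, rfl⟩ := Ideal.Quotient.mk_surjective y
      refine Ideal.Quotient.eq.2 (show Λ (a - b) = 0 from ?_)
      rw [map_sub, sub_eq_zero]
      exact h
    · obtain ⟨r, z, rfl⟩ := hdec x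
      refine ⟨Ideal.Quotient.mk J' (TrivSqZeroExt.inl r + TrivSqZeroExt.inr (z - L r)), ?_⟩
      change ψ₀ (r + 0) + μ₀ (0 + (z - L r) + L (r + 0)) = _
      simp
  let τ : T →+* Q := ((f₀.comp ψ₀.toRingHom).comp (TrivSqZeroExt.fstHom R R M).toRingHom)
  let fE : T ⧸ J' →+* Q := Ideal.Quotient.lift J' τ fun t ht => by
    have := congrArg f₀ (show Λ t = 0 from ht)
    rwa [hΛ, map_add, hf₀, add_zero, map_zero] at this
  let ψ : R →ₐ[A] T ⧸ J' := (Ideal.Quotient.mkₐ A J').comp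
    { toRingHom := TrivSqZeroExt.inlHom R M, commutes' := fun _ => rfl }
  let μ : M →+ T ⧸ J' := (Ideal.Quotient.mk J').toAddMonoidHom.comp (TrivSqZeroExt.inrHom R M).toAddMonoidHom
  refine ⟨T ⧸ J', inferInstance, inferInstance, LinearEquiv.ofBijective u hub, fE, ψ, μ, fun r z => ?_,
    fun x => ?_, fun r z => ?_, fun x => ?_⟩
  · change ψ₀ (r + 0) + μ₀ (0 + z + L (r + 0)) = _
    rw [add_zero, zero_add]
  · obtain ⟨t, rfl⟩ := Ideal.Quotient.mk_surjective x
    exact ⟨t.fst, t.snd, congrArg (Ideal.Quotient.mk J') (TrivSqZeroExt.inl_fst_add_inr_snd_eq t).symm⟩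
  · change Ideal.Quotient.mk J' (TrivSqZeroExt.inl r) * Ideal.Quotient.mk J' (TrivSqZeroExt.inr z) = _
    rw [← map_mul, TrivSqZeroExt.inl_mul_inr]
    rfl
  · obtain ⟨t, rfl⟩ := Ideal.Quotient.mk_surjective x
    change f₀ (ψ₀ t.fst) = f₀ (ψ₀ t.fst + μ₀ (t.snd + L t.fst))
    rw [map_add, hf₀, add_zero]

theorem ker_q_comp (hp : Art.IsSemismallExt p) {E : Type u} [CommRing E] (aE : C' →+* E)
    (fE : E →+* D.carrier) (hfs : Function.Surjective fE)
    (hfa : ∀ c, fE (aE c) = algebraMap C D.carrier (p c))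
    (hker : RingHom.ker fE = (RingHom.ker p.toAlgHom).map aE) :
    RingHom.ker (D.q.comp fE) = (IsLocalRing.maximalIdeal C').map aE := by
  refine le_antisymm (fun x hx => ?_) (Ideal.map_le_iff_le_comap.2 fun c hc => ?_)
  · have hb : fE x ∈ RingHom.ker D.q := hx
    rw [D.ker_q] at hb
    suffices ∀ b ∈ (IsLocalRing.maximalIdeal C).map (algebraMap C D.carrier),
        ∃ y ∈ (IsLocalRing.maximalIdeal C').map aE, fE y = b by
      obtain ⟨y, hy, hy'⟩ := this _ hb
      have hxy : x - y ∈ RingHom.ker fE := by rw [RingHom.mem_ker, map_sub, hy', sub_self]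
      rw [hker] at hxy
      have := add_mem hy (Ideal.map_mono (kerP_le p) hxy)
      rwa [add_sub_cancel] at this
    intro b hb
    induction hb using Submodule.span_induction with
    | mem w hw =>
      obtain ⟨c, hc, rfl⟩ := hw
      obtain ⟨c', rfl⟩ := hp.1 c
      exact ⟨aE c', Ideal.mem_map_of_mem aE ((Art.mem_maximalIdeal_iff C' _).2
        ((Art.res_app p c').symm.trans ((Art.mem_maximalIdeal_iff C _).1 hc))), hfa c'⟩
    | zero => exact ⟨0, zero_mem _, map_zero _⟩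
    | add a b _ _ ha hb =>
      obtain ⟨y, hy, rfl⟩ := ha
      obtain ⟨y', hy', rfl⟩ := hb
      exact ⟨y + y', add_mem hy hy', map_add _ _ _⟩
    | smul a w _ hw =>
      obtain ⟨y, hy, rfl⟩ := hw
      obtain ⟨a', rfl⟩ := hfs a
      exact ⟨a' * y, Ideal.mul_mem_left _ _ hy, map_mul _ _ _⟩
  · change D.q (fE (aE c)) = 0
    rw [hfa, D.q_algebraMap, Art.res_app, (Art.mem_maximalIdeal_iff C' _).1 hc, map_zero]

theorem inv_eq_Spec_of_hom_eq {A B : Type u} [CommRing A] [CommRing B] (e : A ≃+* B)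
    (φ : Spec (CommRingCat.of A) ≅ Spec (CommRingCat.of B))
    (h : φ.hom = Spec.map (CommRingCat.ofHom e.symm.toRingHom)) :
    φ.inv = Spec.map (CommRingCat.ofHom e.toRingHom) := by
  rw [← cancel_epi φ.hom, Iso.hom_inv_id, h, ← Spec.map_comp, ← CommRingCat.ofHom_comp,
    show e.symm.toRingHom.comp e.toRingHom = RingHom.id _ from RingHom.ext e.symm_apply_apply,
    CommRingCat.ofHom_id, Spec.map_id]

theorem exists_twist' {Y : Ext' p D} {ψ : LRing C' P →ₐ[C'] Y.D'.carrier} (h : IsLift' P Y ψ)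
    (θ : L0 P →ₗ[B₀] Mod B₀ p) : ∃ ψ', IsLift' P Y ψ' ∧
      ∀ r, ψ' r = ψ r + Y.μ hp (θ (CotTLib.oneD P (red P r))) := by
  let ψ' : LRing C' P →ₐ[C'] Y.D'.carrier := MvPolynomial.aeval
    (fun i => ψ (MvPolynomial.X i) + Y.μ hp (θ (CotTLib.oneD P (CotTLib.var P i))))
  have key : ∀ r, ψ' r = ψ r + Y.μ hp (θ (CotTLib.oneD P (red P r))) := by
    intro r
    induction r using MvPolynomial.induction_on with
    | C c =>
      rw [red_C, CotTLib.oneD_apply, Derivation.map_algebraMap, tmul_zero, map_zero θ, map_zero, add_zero]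
      exact (ψ'.commutes c).trans (ψ.commutes c).symm
    | add r s hr hs =>
      rw [map_add ψ', hr, hs, map_add ψ, map_add (red P), map_add (CotTLib.oneD P), map_add θ, map_add]
      abel
    | mul_X r i hr =>
      rw [map_mul ψ', hr, show ψ' (MvPolynomial.X i) = _ from MvPolynomial.aeval_X _ i,
        Y.mul_formula hp, map_mul ψ, map_mul (red P), CotTLib.oneD_mul, map_add θ, map_smul θ,
        map_smul θ, h.q_eq, h.q_eq, red_X]
  refine ⟨ψ', fun r => ?_, key⟩
  rw [key, map_add, Y.f_μ, add_zero, h]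

variable {P hp}

theorem IsDiff.twist {X Y : Ext' p D} {ψX : LRing C' P →ₐ[C'] X.D'.carrier}
    {ψY ψY' : LRing C' P →ₐ[C'] Y.D'.carrier} {φ : P.toExtension.Cotangent →ₗ[B₀] Mod B₀ p}
    (hd : IsDiff P hp X Y ψX ψY φ) (θ : L0 P →ₗ[B₀] Mod B₀ p)
    (hval : ∀ r, ψY' r = ψY r + Y.μ hp (θ (CotTLib.oneD P (red P r)))) :
    IsDiff P hp X Y ψX ψY' (φ + θ ∘ₗ P.toExtension.cotangentComplex) := fun r hr z hz => by
  rw [hval, ← hd r hr z hz, ← map_add, add_assoc]
  rfl

theorem IsDiff.unique {X Y : Ext' p D} {ψX : LRing C' P →ₐ[C'] X.D'.carrier}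
    {ψY : LRing C' P →ₐ[C'] Y.D'.carrier} {φ φ' : P.toExtension.Cotangent →ₗ[B₀] Mod B₀ p}
    (hX : IsLift' P X ψX) (hd : IsDiff P hp X Y ψX ψY φ) (hd' : IsDiff P hp X Y ψX ψY φ') : φ = φ' := by
  refine LinearMap.ext fun c => ?_
  obtain ⟨⟨x, hx⟩, rfl⟩ := Algebra.Extension.Cotangent.mk_surjective c
  obtain ⟨r, hr, hrx⟩ := exists_red_eq (p := p) (D := D) P hp ⟨x, hx⟩
  simp only at hrx
  subst hrx
  obtain ⟨z, hz⟩ := X.exists_μ_eq hp ((hX r).trans hr)
  exact add_left_cancel (Y.μ_injective hp ((hd r hr z hz).trans (hd' r hr z hz).symm))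

theorem IsDiff.homToT1_eq {X Y : Ext' p D} {ψX : LRing C' P →ₐ[C'] X.D'.carrier}
    {ψY ψY' : LRing C' P →ₐ[C'] Y.D'.carrier} {φ φ' : P.toExtension.Cotangent →ₗ[B₀] Mod B₀ p}
    (hX : IsLift' P X ψX) (hY : IsLift' P Y ψY) (hY' : IsLift' P Y ψY')
    (hd : IsDiff P hp X Y ψX ψY φ) (hd' : IsDiff P hp X Y ψX ψY' φ') :
    homToT1 P _ φ = homToT1 P _ φ' := by
  choose z hz using fun i => Y.exists_μ_eq hp
    (show Y.f (ψY' (MvPolynomial.X i) - ψY (MvPolynomial.X i)) = 0 by rw [map_sub, hY, hY', sub_self])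
  let θ : L0 P →ₗ[B₀] Mod B₀ p := P.cotangentSpaceBasis.constr B₀ z
  have hθ : ∀ i, θ (CotTLib.oneD P (CotTLib.var P i)) = z i := fun i => by
    have e1 : CotTLib.oneD P (CotTLib.var P i) = P.cotangentSpaceBasis i :=
      (Algebra.Generators.cotangentSpaceBasis_apply P.toGenerators i).symm
    rw [e1, Module.Basis.constr_basis]
  obtain ⟨ψ'', h'', hval⟩ := exists_twist' P hp hY θ
  obtain rfl : ψ'' = ψY' := MvPolynomial.algHom_ext fun i => by
    rw [hval, red_X, hθ, hz]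
    abel
  obtain rfl := hd'.unique hX (hd.twist θ hval)
  rw [map_add, left_eq_add, ← LinearMap.mem_ker, CotTLib.ker_homToT1]
  exact ⟨θ, rfl⟩

variable (P hp) in
theorem exists_decomp {X : Ext' p D} {ψ : LRing C' P →ₐ[C'] X.D'.carrier} (h : IsLift' P X ψ)
    (x : X.D'.carrier) : ∃ r z, x = ψ r + X.μ hp z := by
  obtain ⟨r, hr⟩ := toD_surjective P hp.1 (X.f x)
  obtain ⟨z, hz⟩ := X.exists_μ_eq hp (show X.f (x - ψ r) = 0 by rw [map_sub, h, hr, sub_self])
  exact ⟨r, z, by rw [hz, add_sub_cancel]⟩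

theorem IsDiff.equiv' {X₀ X Y : Ext' p D} {ψ₀ : LRing C' P →ₐ[C'] X₀.D'.carrier}
    {ψX : LRing C' P →ₐ[C'] X.D'.carrier} {ψY : LRing C' P →ₐ[C'] Y.D'.carrier}
    {φ : P.toExtension.Cotangent →ₗ[B₀] Mod B₀ p} (h₀ : IsLift' P X₀ ψ₀)
    (hX : IsLift' P X ψX) (hY : IsLift' P Y ψY) (hdX : IsDiff P hp X₀ X ψ₀ ψX φ)
    (hdY : IsDiff P hp X₀ Y ψ₀ ψY φ) : X.Equiv' Y := by
  have sym : ∀ {U V : Ext' p D} {ψU : LRing C' P →ₐ[C'] U.D'.carrier}
      {ψV : LRing C' P →ₐ[C'] V.D'.carrier}, IsLift' P U ψU → IsDiff P hp X₀ U ψ₀ ψU φ →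
      IsDiff P hp X₀ V ψ₀ ψV φ → ∀ r r' z z',
      ψU r + U.μ hp z = ψU r' + U.μ hp z' → ψV r + V.μ hp z = ψV r' + V.μ hp z' := by
    intro U V ψU ψV hU hdU hdV r r' z z' e
    have e1 := congrArg U.f e
    rw [map_add, map_add, U.f_μ, U.f_μ, add_zero, add_zero, hU, hU] at e1
    have hk : toD p D P (r - r') = 0 := by rw [map_sub, e1, sub_self]
    obtain ⟨w, hw⟩ := X₀.exists_μ_eq hp ((h₀ _).trans hk)
    have eU := hdU _ hk w hw
    have eV := hdV _ hk w hw
    generalize w + φ _ = v at eU eV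
    have : U.μ hp v = U.μ hp (z' - z) := by
      rw [eU, map_sub ψU, map_sub (U.μ hp), sub_eq_sub_iff_add_eq_add, e, add_comm]
    rw [U.μ_injective hp this, map_sub (V.μ hp), map_sub ψV, sub_eq_sub_iff_add_eq_add] at eV
    rw [← eV, add_comm]
  choose rX zX eX using exists_decomp P hp hX
  choose rY zY eY using exists_decomp P hp hY
  let f : X.D'.carrier → Y.D'.carrier := fun x => ψY (rX x) + Y.μ hp (zX x)
  let g : Y.D'.carrier → X.D'.carrier := fun y => ψX (rY y) + X.μ hp (zY y)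
  have hf : ∀ r z, f (ψX r + X.μ hp z) = ψY r + Y.μ hp z := fun r z =>
    sym hX hdX hdY _ _ _ _ (eX _).symm
  have hg : ∀ r z, g (ψY r + Y.μ hp z) = ψX r + X.μ hp z := fun r z =>
    sym hY hdY hdX _ _ _ _ (eY _).symm
  let e : X.D'.carrier ≃+* Y.D'.carrier :=
    { toFun := f
      invFun := g
      left_inv := fun x => by rw [eX x, hf, hg]
      right_inv := fun y => by rw [eY y, hg, hf]
      map_mul' := fun x y => by
        obtain ⟨r, z, rfl⟩ := exists_decomp P hp hX x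
        obtain ⟨r', z', rfl⟩ := exists_decomp P hp hX y
        rw [X.mul_formula hp, hX.q_eq, hX.q_eq, ← map_mul ψX, hf, hf, hf, Y.mul_formula hp, hY.q_eq,
          hY.q_eq, map_mul ψY]
      map_add' := fun x y => by
        obtain ⟨r, z, rfl⟩ := exists_decomp P hp hX x
        obtain ⟨r', z', rfl⟩ := exists_decomp P hp hX y
        rw [add_add_add_comm, ← map_add ψX, ← map_add (X.μ hp), hf, hf, hf, map_add ψY,
          map_add (Y.μ hp), add_add_add_comm] }
  refine ⟨e, ⟨fun c => ?_, fun x => ?_⟩, fun x => ?_⟩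
  · have h := hf (algebraMap C' _ c) 0
    rwa [map_zero, map_zero, add_zero, add_zero, AlgHom.commutes, AlgHom.commutes] at h
  · change Y.D'.q (f x) = _
    rw [eX x, hf, map_add, map_add, X.q_μ, Y.q_μ, hX.q_eq, hY.q_eq]
  · change Y.f (f x) = _
    rw [eX x, hf, map_add, map_add, X.f_μ, Y.f_μ, hX, hY]

theorem IsDiff.map_equiv' {X₀ X Y : Ext' p D} {ψ₀ : LRing C' P →ₐ[C'] X₀.D'.carrier}
    {ψX : LRing C' P →ₐ[C'] X.D'.carrier} {φ : P.toExtension.Cotangent →ₗ[B₀] Mod B₀ p}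
    (hX : IsLift' P X ψX) (hd : IsDiff P hp X₀ X ψ₀ ψX φ) (h : X.Equiv' Y) :
    ∃ ψY, IsLift' P Y ψY ∧ IsDiff P hp X₀ Y ψ₀ ψY φ := by
  obtain ⟨e, he, hf⟩ := h
  refine ⟨(AlgEquiv.ofRingEquiv (f := e) he.1).toAlgHom.comp ψX, fun r => (hf _).trans (hX r),
    fun r hr z hz => ?_⟩
  rw [← X.map_μ hp he, hd r hr z hz]
  rfl

variable (P hp) in
theorem exists_ext_of_diff {X₀ : Ext' p D} {ψ₀ : LRing C' P →ₐ[C'] X₀.D'.carrier}
    (h₀ : IsLift' P X₀ ψ₀) (φ : P.toExtension.Cotangent →ₗ[B₀] Mod B₀ p) :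
    ∃ (X : Ext' p D) (ψ : LRing C' P →ₐ[C'] X.D'.carrier),
      IsLift' P X ψ ∧ IsDiff P hp X₀ X ψ₀ ψ φ := by
  obtain ⟨L, hLC, hL, hLk⟩ := exists_extend_cotangent (C' := C') P φ
  obtain ⟨E, _, _, u, fE, ψ, μ, hu, hdec, hψμ, hfu⟩ := exists_twisted_ring
    ((algebraMap P.toExtension.Ring B₀).comp (red P)) ψ₀ X₀.D'.q h₀.q_eq (X₀.μ hp) (X₀.mul_μ hp)
    (X₀.q_μ hp) (fun x => exists_decomp P hp h₀ x) L hLC hL X₀.f (X₀.f_μ hp)
  have hf : ∀ r, fE (ψ r) = toD p D P r := fun r => by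
    have := hu r 0
    rw [map_zero, add_zero, zero_add] at this
    rw [hfu, this, map_add, X₀.f_μ, add_zero, h₀]
  have hfs : Function.Surjective fE := fun b => by
    obtain ⟨r, rfl⟩ := toD_surjective P hp.1 b
    exact ⟨ψ r, hf r⟩
  have hfa : ∀ c, fE (algebraMap C' E c) = algebraMap C D.carrier (p c) := fun c => by
    rw [← ψ.commutes c, hf]
    exact toD_C P c
  have hjμ : ∀ (r : LRing C' P) (j : ↥(RingHom.ker p.toAlgHom)),
      μ (algebraMap P.toExtension.Ring B₀ (red P r) ⊗ₜ[k] j) = algebraMap C' E (j : C') * ψ r := by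
    intro r j
    have e1 := hu 0 (algebraMap P.toExtension.Ring B₀ (red P r) ⊗ₜ[k] j)
    rw [map_zero ψ, map_zero ψ₀, map_zero L, zero_add, zero_add, add_zero] at e1
    have e2 := hu (MvPolynomial.C (j : C') * r) 0
    have hL0 : L (MvPolynomial.C (j : C') * r) = 0 := by
      refine (hLC (j : C') r).trans ?_
      change algebraMap P.toExtension.Ring B₀ (red P (MvPolynomial.C (j : C'))) • L r = 0
      rw [red_C, (Art.mem_maximalIdeal_iff C' _).1 (kerP_le p j.2), map_zero, map_zero, zero_smul]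
    rw [hL0, add_zero, map_zero, add_zero, map_zero, add_zero] at e2
    refine u.injective ?_
    rw [e1, ← h₀.q_eq, X₀.μ_tmul, show algebraMap C' E (j : C') * ψ r = ψ (MvPolynomial.C (j : C') * r) by
      rw [map_mul]; exact congrArg (· * ψ r) (ψ.commutes _).symm, e2, ψ_C_mul]
  have hker : RingHom.ker fE = (RingHom.ker p.toAlgHom).map (algebraMap C' E) := by
    refine le_antisymm (fun x hx => ?_) (Ideal.map_le_iff_le_comap.2 fun j hj => ?_)
    · obtain ⟨r, z, rfl⟩ := hdec x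
      obtain ⟨w, hw⟩ : ∃ w, ψ r + μ z = μ w := by
        have hr : toD p D P r = 0 := by
          have := hx
          rw [RingHom.mem_ker, hfu, hu, map_add, X₀.f_μ, add_zero, h₀] at this
          exact this
        obtain ⟨w, hw⟩ := X₀.exists_μ_eq hp ((h₀ r).trans hr)
        refine ⟨w + L r + z, u.injective ?_⟩
        have := hu 0 (w + L r + z)
        rw [map_zero ψ, map_zero ψ₀, map_zero L, zero_add, zero_add, add_zero] at this
        rw [hu, this, ← hw, ← map_add]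
        congr 1
        abel
      rw [hw]
      clear hw hx
      induction w using TensorProduct.induction_on with
      | zero => rw [map_zero]; exact zero_mem _
      | add a b ha hb => rw [map_add]; exact add_mem ha hb
      | tmul b j =>
        obtain ⟨r₀, rfl⟩ := CotTLib.algebraMap_surjective P b
        obtain ⟨r, rfl⟩ := red_surjective (C' := C') P r₀
        exact (hjμ r j).symm ▸ Ideal.mul_mem_right _ _ (Ideal.mem_map_of_mem _ j.2)
    · change fE (algebraMap C' E j) = 0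
      rw [hfa, show p j = 0 from hj, map_zero]
  let D₁ : AlgDef k B₀ C' :=
    { carrier := E
      flat := Module.Flat.of_linearEquiv u
      q := D.q.comp fE
      q_surjective := D.q_surjective.comp hfs
      q_algebraMap := fun c => by
        change D.q (fE (algebraMap C' E c)) = _
        rw [hfa, D.q_algebraMap, Art.res_app]
      ker_q := ker_q_comp hp _ fE hfs hfa hker }
  let X : Ext' p D := ⟨D₁, fE, hfs, hker, hfa, fun b => rfl⟩
  have hμ : ∀ w, X.μ hp w = μ w := by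
    intro w
    induction w using TensorProduct.induction_on with
    | zero => rw [map_zero, map_zero]
    | add a b ha hb => rw [map_add, ha, hb, map_add]
    | tmul b j =>
      obtain ⟨r₀, rfl⟩ := CotTLib.algebraMap_surjective P b
      obtain ⟨r, rfl⟩ := red_surjective (C' := C') P r₀
      refine Eq.trans ?_ (hjμ r j).symm
      rw [show algebraMap P.toExtension.Ring B₀ (red P r) = X.D'.q (ψ r) from
        ((congrArg D.q (hf r)).trans (q_toD (D := D) (p := p) P r)).symm, X.μ_tmul]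
  refine ⟨X, ψ, hf, fun r hr z hz => ?_⟩
  rw [hμ]
  refine u.injective ?_
  have e1 := hu 0 (z + φ (Algebra.Extension.Cotangent.mk ⟨red P r, red_mem_ker P hr⟩))
  rw [map_zero ψ, map_zero ψ₀, map_zero L, zero_add, zero_add, add_zero] at e1
  have e2 := hu r 0
  rw [map_zero, add_zero, zero_add] at e2
  rw [e1, map_add, hz, e2, hLk r (red_mem_ker P hr)]

variable (hp) in
include hp in
/-- The extensions form a torsor under `T¹`. -/
theorem nonempty_quot_equiv (X₀ : Ext' p D) :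
    Nonempty (Quot (Ext'.Equiv' (p := p) (D := D)) ≃ T1 P (Mod B₀ p)) := by
  obtain ⟨ψ₀, h₀⟩ := exists_lift' P X₀
  choose ψ hψ using exists_lift' (p := p) (D := D) P
  choose φ hφ using fun X => exists_diff P hp h₀ (hψ X)
  refine ⟨Equiv.ofBijective (Quot.lift (fun X => homToT1 P _ (φ X)) fun X Y h => ?_) ⟨?_, ?_⟩⟩
  · obtain ⟨ψY, hY, hdY⟩ := (hφ X).map_equiv' (hψ X) h
    exact hdY.homToT1_eq h₀ hY (hψ Y) (hφ Y)
  · intro a b
    induction a using Quot.ind with | _ X => ?_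
    induction b using Quot.ind with | _ Y => ?_
    intro hXY
    have h1 : φ Y - φ X ∈ LinearMap.ker (homToT1 P _) := by
      rw [LinearMap.mem_ker]
      refine (map_sub (homToT1 P (Mod B₀ p)) (φ Y) (φ X)).trans (sub_eq_zero.2 ?_)
      exact hXY.symm
    rw [CotTLib.ker_homToT1] at h1
    obtain ⟨θ, hθ⟩ := h1
    rw [LinearMap.lcomp_apply'] at hθ
    obtain ⟨ψ', h', hval⟩ := exists_twist' P hp (hψ X) θ
    have hd := (hφ X).twist θ hval
    rw [hθ] at hd
    replace hd : IsDiff P hp X₀ X ψ₀ ψ' (φ Y) := (add_sub_cancel (φ X) (φ Y)) ▸ hd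
    exact Quot.sound (hd.equiv' h₀ h' (hψ Y) (hφ Y))
  · intro x
    obtain ⟨φ₀, rfl⟩ := CotTLib.homToT1_surjective P _ x
    obtain ⟨X, ψX, hX, hd⟩ := exists_ext_of_diff P hp h₀ φ₀
    exact ⟨Quot.mk _ X, (hφ X).homToT1_eq h₀ (hψ X) hX hd⟩

variable (P hp) in
include hp in
/-- The scheme-theoretic form. -/
theorem nonempty_quot_defSch_equiv
    (𝒳 : DefSch (Spec (CommRingCat.of B₀)) (str k B₀) C)
    (hne : ∃ 𝒳' : DefSch (Spec (CommRingCat.of B₀)) (str k B₀) C', Nonempty ((𝒳'.baseChange p).Iso 𝒳)) :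
    Nonempty (Quot (fun a b : (Σ 𝒳' : DefSch (Spec (CommRingCat.of B₀)) (str k B₀) C', (𝒳'.baseChange p).Iso 𝒳) =>
        ∃ ψ : a.1.Iso b.1, ((ψ.baseChange p).trans b.2).iso = a.2.iso) ≃ T1 P (Mod B₀ p)) := by
  obtain ⟨D, ⟨a⟩⟩ := AlgDef.exists_iso_toDefSch 𝒳
  let S := Σ 𝒳' : DefSch (Spec (CommRingCat.of B₀)) (str k B₀) C', (𝒳'.baseChange p).Iso 𝒳
  let R : S → S → Prop := fun a b => ∃ ψ : a.1.Iso b.1, ((ψ.baseChange p).trans b.2).iso = a.2.iso
  choose D' hD' using fun s : S => AlgDef.exists_iso_toDefSch s.1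
  let b : ∀ s : S, (D' s).toDefSch.Iso s.1 := fun s => (hD' s).some
  let Φ : ∀ s : S, ((D' s).toDefSch.baseChange p).Iso D.toDefSch := fun s =>
    ((b s).baseChange p).trans (s.2.trans a.symm)
  choose f hf hfs using fun s : S => AlgDef.exists_isBC hp.1 (Φ s)
  let F : S → Ext' p D := fun s => ⟨D' s, f s, hf s⟩
  let G : Ext' p D → S := fun X => ⟨X.D'.toDefSch, (X.isBC.iso hp.1).trans a⟩
  have hinv : ∀ {ξ ξ' : DefSch (Spec (CommRingCat.of B₀)) (str k B₀) C'} (ψ : ξ.Iso ξ'),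
      (ψ.baseChange p).iso.inv ≫ Limits.pullback.fst _ _ = Limits.pullback.fst _ _ ≫ ψ.iso.inv :=
    fun ψ => DefSch.pullMap_fst ψ.iso.inv ψ.symm.hom_f p
  have hGF : ∀ s, Quot.mk R (G (F s)) = Quot.mk R s := fun s => Quot.sound ⟨b s, by
    have h1 : ((F s).isBC.iso hp.1).iso = (Φ s).iso :=
      AlgDef.iso_ext_of_isBC (((F s).isBC.iso_inv_fst hp.1).trans (hfs s).symm)
    change _ = ((F s).isBC.iso hp.1).iso ≪≫ a.iso
    rw [h1]
    refine Iso.ext ?_
    change ((b s).baseChange p).iso.hom ≫ s.2.iso.hom =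
      (((b s).baseChange p).iso.hom ≫ s.2.iso.hom ≫ a.iso.inv) ≫ a.iso.hom
    simp⟩
  have hR : ∀ s t, R s t → (F s).Equiv' (F t) := by
    rintro s t ⟨ψ, hψ⟩
    obtain ⟨e, he, hΨ⟩ := AlgDef.exists_isIsoMap ((b s).trans (ψ.trans (b t).symm))
    refine ⟨e, he, fun x => ?_⟩
    have hψ' : s.2.iso.inv = t.2.iso.inv ≫ (ψ.baseChange p).iso.inv := (congrArg Iso.inv hψ).symm
    have he' : ((b s).trans (ψ.trans (b t).symm)).iso.inv = Spec.map (CommRingCat.ofHom e.toRingHom) :=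
      inv_eq_Spec_of_hom_eq e _ hΨ
    have h1 : Spec.map (CommRingCat.ofHom (f t)) ≫ Spec.map (CommRingCat.ofHom e.toRingHom) =
        Spec.map (CommRingCat.ofHom (f s)) := by
      rw [← hfs, ← hfs, ← he']
      change ((a.iso.hom ≫ t.2.iso.inv) ≫ ((b t).baseChange p).iso.inv) ≫ Limits.pullback.fst _ _ ≫
          ((((b t).iso.hom) ≫ ψ.iso.inv) ≫ (b s).iso.inv) =
        ((a.iso.hom ≫ s.2.iso.inv) ≫ ((b s).baseChange p).iso.inv) ≫ Limits.pullback.fst _ _
      rw [hψ']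
      simp only [Category.assoc]
      rw [reassoc_of% (hinv (b t)), hinv (b s), reassoc_of% (hinv ψ), Iso.inv_hom_id_assoc]
    rw [← Spec.map_comp, ← CommRingCat.ofHom_comp] at h1
    exact RingHom.congr_fun (congrArg CommRingCat.Hom.hom (Spec.map_injective h1)) x
  have hG : ∀ X Y, X.Equiv' Y → R (G X) (G Y) := by
    rintro X Y ⟨e, he, hef⟩
    refine ⟨AlgDef.toIso e he, ?_⟩
    have h1 : (((AlgDef.toIso e he).baseChange p).trans (Y.isBC.iso hp.1)).iso = (X.isBC.iso hp.1).iso := by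
      refine AlgDef.iso_ext_of_isBC ?_
      change ((Y.isBC.iso hp.1).iso.inv ≫ ((AlgDef.toIso e he).baseChange p).iso.inv) ≫ _ = _
      rw [Category.assoc, hinv, ← Category.assoc, Y.isBC.iso_inv_fst hp.1, X.isBC.iso_inv_fst hp.1]
      change Spec.map _ ≫ Spec.map (CommRingCat.ofHom e.toRingHom) = _
      rw [← Spec.map_comp, ← CommRingCat.ofHom_comp]
      congr 2
      exact RingHom.ext hef
    change ((AlgDef.toIso e he).baseChange p).iso ≪≫ (Y.isBC.iso hp.1).iso ≪≫ a.iso = _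
    rw [← Iso.trans_assoc]
    exact congrArg (· ≪≫ a.iso) h1
  have hFG : ∀ X, (F (G X)).Equiv' X := by
    intro X
    obtain ⟨e, he, hb⟩ := AlgDef.exists_isIsoMap (b (G X))
    refine ⟨e, he, fun x => ?_⟩
    have hb' : (b (G X)).iso.inv = Spec.map (CommRingCat.ofHom e.toRingHom) :=
      inv_eq_Spec_of_hom_eq e (b (G X)).iso hb
    have h1 : Spec.map (CommRingCat.ofHom X.f) ≫ Spec.map (CommRingCat.ofHom e.toRingHom) =
        Spec.map (CommRingCat.ofHom (f (G X))) := by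
      rw [← hfs, ← X.isBC.iso_inv_fst hp.1, ← hb']
      change _ = ((a.iso.hom ≫ a.iso.inv ≫ (X.isBC.iso hp.1).iso.inv) ≫ ((b (G X)).baseChange p).iso.inv) ≫
        Limits.pullback.fst _ _
      simp only [Category.assoc]
      rw [hinv (b (G X)), Iso.hom_inv_id_assoc]
      exact Category.assoc _ _ _
    rw [← Spec.map_comp, ← CommRingCat.ofHom_comp] at h1
    exact RingHom.congr_fun (congrArg CommRingCat.Hom.hom (Spec.map_injective h1)) x
  obtain ⟨ξ, ⟨φ⟩⟩ := hne
  obtain ⟨T⟩ := nonempty_quot_equiv (P := P) hp (F ⟨ξ, φ⟩)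
  let e : Quot R ≃ Quot (Ext'.Equiv' (p := p) (D := D)) :=
    { toFun := Quot.map F hR
      invFun := Quot.map G hG
      left_inv := fun q => Quot.inductionOn q hGF
      right_inv := fun q => Quot.inductionOn q fun X => Quot.sound (hFG X) }
  exact ⟨e.trans T⟩

end Groth.Agent.AffDefLib

end
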